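import Groth.Prelude.Def_Adeq2
import Mathlib.AlgebraicGeometry.Morphisms.UniversallyOpen
import Mathlib.Algebra.Category.Ring.Constructions
import Mathlib.AlgebraicGeometry.Sites.Fpqc

/-!
Precoverages by flat open morphisms are affine locally finite.
-/

set_option autoImplicit false
set_option maxHeartbeats 800000
universe u

open CategoryTheory CategoryTheory.Limits AlgebraicGeometry TensorProduct

noncomputable section

namespace AdeqModLib

/-- A precoverage whose coverings are refined over affine schemes by finite affine coverings. -/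
structure Good (K : Precoverage Scheme.{u}) : Prop where
  refine' : ∀ {S : Scheme.{u}} {ι : Type u} {Yf : ι → Scheme.{u}} (g : ∀ i, Yf i ⟶ S),
    Presieve.ofArrows Yf g ∈ K.coverings S → ∀ {A : CommRingCat.{u}} (b : Spec A ⟶ S),
      ∃ (n : ℕ) (A' : Fin n → CommRingCat.{u}) (φ : ∀ k, A ⟶ A' k) (j : Fin n → ι) (c : ∀ k, Spec (A' k) ⟶ Yf (j k)),
        Presieve.ofArrows (fun k => Spec (A' k)) (fun k => Spec.map (φ k)) ∈ K.coverings (Spec A) ∧
          ∀ k, c k ≫ g (j k) = Spec.map (φ k) ≫ b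
  baseChange : ∀ {A : CommRingCat.{u}} {κ : Type} (A' : κ → Type u) [∀ k, CommRing (A' k)] [∀ k, Algebra A (A' k)],
    Presieve.ofArrows (fun k => Spec (CommRingCat.of (A' k)))
      (fun k => Spec.map (CommRingCat.ofHom (algebraMap A (A' k)))) ∈ K.coverings (Spec A) →
    ∀ (B : Type u) [CommRing B] [Algebra A B],
      Presieve.ofArrows (fun k => Spec (CommRingCat.of (A' k ⊗[A] B)))
        (fun k => Spec.map (CommRingCat.ofHom (Algebra.TensorProduct.includeRight : B →ₐ[A] A' k ⊗[A] B).toRingHom)) ∈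
          K.coverings (Spec (CommRingCat.of B))
  affineCover : ∀ (S : Scheme.{u}), ∃ (ι : Type u) (R : ι → CommRingCat.{u}) (a : ∀ i, Spec (R i) ⟶ S),
    Presieve.ofArrows (fun i => Spec (R i)) a ∈ K.coverings S
  trans : ∀ {S : Scheme.{u}} {ι : Type u} {Yf : ι → Scheme.{u}} (g : ∀ i, Yf i ⟶ S),
    Presieve.ofArrows Yf g ∈ K.coverings S → ∀ {κ : ι → Type u} {Z : ∀ i, κ i → Scheme.{u}} (h : ∀ i k, Z i k ⟶ Yf i),
      (∀ i, Presieve.ofArrows (Z i) (h i) ∈ K.coverings (Yf i)) →
      Presieve.ofArrows (fun p : Σ i, κ i => Z p.1 p.2) (fun p => h p.1 p.2 ≫ g p.1) ∈ K.coverings S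
  mem : ∀ {X : Scheme.{u}} {R : Sieve X}, R ∈ K.toGrothendieck X →
    ∃ (ι : Type u) (Yf : ι → Scheme.{u}) (g : ∀ i, Yf i ⟶ X), Presieve.ofArrows Yf g ∈ K.coverings X ∧ ∀ i, R (g i)
  flat : ∀ {A : CommRingCat.{u}} {κ : Type} (A' : κ → CommRingCat.{u}) (φ : ∀ k, A ⟶ A' k),
    Presieve.ofArrows (fun k => Spec (A' k)) (fun k => Spec.map (φ k)) ∈ K.coverings (Spec A) →
      (∀ k, (φ k).hom.Flat) ∧ ∀ x : Spec A, ∃ (k : κ) (y : Spec (A' k)), Spec.map (φ k) y = x

theorem good_precoverage (P : MorphismProperty Scheme.{u}) [P.IsStableUnderBaseChange]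
    [P.IsStableUnderComposition] [P.ContainsIdentities] [P.RespectsIso] [P.HasPullbacks] (hflat : P ≤ @Flat) (himm : @IsOpenImmersion ≤ P)
    (hopen : ∀ {X Y : Scheme.{u}} (f : X ⟶ Y), P f → IsOpenMap f) : Good (Scheme.precoverage P) where
  refine' {S ι Yf} g hg {A} b := by
    classical
    obtain ⟨hs, hP⟩ := (Scheme.ofArrows_mem_precoverage_iff _).1 hg
    have key : ∀ x : Spec A, ∃ (i : ι) (w : (pullback b (g i)).carrier), pullback.fst b (g i) w = x := fun x => by
      obtain ⟨i, y, hy⟩ := hs (b x)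
      obtain ⟨w, hw, -⟩ := Scheme.Pullback.exists_preimage_pullback (f := b) (g := g i) x y hy.symm
      exact ⟨i, w, hw⟩
    choose i w hw using key
    have hV : ∀ x : Spec A, ∃ V : (pullback b (g (i x))).Opens, IsAffineOpen V ∧ w x ∈ V ∧ V ≤ ⊤ := fun x => by
      obtain ⟨V, hV, hxV, hVU⟩ := TopologicalSpace.Opens.isBasis_iff_nbhd.mp
        (pullback b (g (i x))).isBasis_affineOpens (show w x ∈ (⊤ : (pullback b (g (i x))).Opens) from trivial)
      exact ⟨V, hV, hxV, hVU⟩
    choose V hVa hwV _ using hV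
    have hPf : ∀ x, P (pullback.fst b (g (i x))) := fun x => MorphismProperty.pullback_fst _ _ (hP (i x))
    let f : ∀ x : Spec A, Spec Γ(pullback b (g (i x)), V x) ⟶ Spec A := fun x =>
      (hVa x).fromSpec ≫ pullback.fst b (g (i x))
    have hPcomp : ∀ x, P (f x) := fun x => MorphismProperty.comp_mem _ _ _ (himm _ inferInstance) (hPf x)
    obtain ⟨t, ht⟩ := (isCompact_univ (X := Spec A)).elim_finite_subcover
      (fun x => Set.range (f x)) (fun x => (hopen _ (hPcomp x)).isOpen_range) (fun x _ => by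
        obtain ⟨v, hv⟩ : w x ∈ Set.range (hVa x).fromSpec := by
          rw [(hVa x).range_fromSpec]
          exact hwV x
        refine Set.mem_iUnion.2 ⟨x, v, ?_⟩
        change pullback.fst b (g (i x)) ((hVa x).fromSpec v) = x
        rw [hv, hw])
    let e := t.equivFin.symm
    refine ⟨t.card, fun k => Γ(pullback b (g (i (e k).1)), V (e k).1), fun k => Spec.preimage (f (e k).1),
      fun k => i (e k).1, fun k => (hVa (e k).1).fromSpec ≫ pullback.snd b (g (i (e k).1)),
      (Scheme.ofArrows_mem_precoverage_iff _).2 ⟨fun x => ?_, fun k => by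
        rw [Spec.map_preimage]; exact hPcomp _⟩, fun k => ?_⟩
    · obtain ⟨y, hy, hx⟩ := Set.mem_iUnion₂.1 (ht (Set.mem_univ x))
      obtain ⟨k, hk⟩ := e.surjective ⟨y, hy⟩
      refine ⟨k, ?_⟩
      have hk' : (e k).1 = y := congrArg Subtype.val hk
      subst hk'
      rw [Spec.map_preimage]
      exact hx
    · rw [Spec.map_preimage, Category.assoc, ← pullback.condition]
      exact (Category.assoc _ _ _).symm
  baseChange {A κ} A' _ _ h B _ _ :=
    Precoverage.mem_coverings_of_isPullback _ h (Spec.map (CommRingCat.ofHom (algebraMap A B))) _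
      (fun k => Spec.map (CommRingCat.ofHom (Algebra.TensorProduct.includeLeftRingHom : A' k →+* A' k ⊗[A] B)))
      (fun k => (isPullback_SpecMap_of_isPushout _ _ _ _ (CommRingCat.isPushout_tensorProduct A (A' k) B)).flip)
  affineCover S := by
    refine ⟨S.affineOpens, fun U => Γ(S, U.1), fun U => IsAffineOpen.fromSpec U.2,
      (Scheme.ofArrows_mem_precoverage_iff _).2 ⟨fun x => ?_, fun U => himm _ (IsAffineOpen.isOpenImmersion_fromSpec U.2)⟩⟩
    obtain ⟨V, hV, hxV, -⟩ := TopologicalSpace.Opens.isBasis_iff_nbhd.mp S.isBasis_affineOpens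
      (show x ∈ (⊤ : S.Opens) from trivial)
    exact ⟨⟨V, hV⟩, by rw [hV.range_fromSpec]; exact hxV⟩
  trans {S ι Yf} g hg {κ Z} h hh := by
    obtain ⟨hs, hP⟩ := (Scheme.ofArrows_mem_precoverage_iff _).1 hg
    refine (Scheme.ofArrows_mem_precoverage_iff _).2 ⟨fun x => ?_, fun p =>
      MorphismProperty.comp_mem _ _ _ (((Scheme.ofArrows_mem_precoverage_iff _).1 (hh p.1)).2 p.2) (hP p.1)⟩
    obtain ⟨i, y, rfl⟩ := hs x
    obtain ⟨k, z, rfl⟩ := ((Scheme.ofArrows_mem_precoverage_iff _).1 (hh i)).1 y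
    exact ⟨⟨i, k⟩, z, rfl⟩
  mem {X R} hR := by
    obtain ⟨T, hT, hle⟩ := Precoverage.mem_toGrothendieck_iff_of_isStableUnderComposition.1 hR
    have key : ∀ x : X, ∃ (W : Scheme.{u}) (g : W ⟶ X), T g ∧ x ∈ Set.range g ∧ P g := fun x => by
      obtain ⟨ι, Z, k, rfl⟩ := T.exists_eq_ofArrows
      obtain ⟨hs, hp⟩ := (Scheme.ofArrows_mem_precoverage_iff _).1 hT
      obtain ⟨i, hi⟩ := hs x
      exact ⟨Z i, k i, ⟨i⟩, hi, hp i⟩
    choose W g hg hx hp using key
    exact ⟨X, W, g, (Scheme.ofArrows_mem_precoverage_iff _).2 ⟨fun x => ⟨x, hx x⟩, hp⟩, fun x => hle _ _ (hg x)⟩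
  flat A' φ h := by
    obtain ⟨hs, hp⟩ := (Scheme.ofArrows_mem_precoverage_iff _).1 h
    exact ⟨fun k => (HasRingHomProperty.Spec_iff (P := @Flat)).1 (hflat _ (hp k)), fun x => hs x⟩

instance : (@Flat ⊓ @LocallyOfFinitePresentation : MorphismProperty Scheme.{u}).IsStableUnderBaseChange where
  of_isPullback sq h := ⟨MorphismProperty.of_isPullback sq h.1, MorphismProperty.of_isPullback sq h.2⟩

instance : (@Flat ⊓ @LocallyOfFinitePresentation : MorphismProperty Scheme.{u}).IsStableUnderComposition where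
  comp_mem f g hf hg := ⟨MorphismProperty.comp_mem _ f g hf.1 hg.1, MorphismProperty.comp_mem _ f g hf.2 hg.2⟩

instance : (@Flat ⊓ @LocallyOfFinitePresentation : MorphismProperty Scheme.{u}).ContainsIdentities :=
  ⟨fun _ => ⟨inferInstance, inferInstance⟩⟩

theorem good_fppf : Good Scheme.fppfPrecoverage.{u} :=
  good_precoverage (@Flat ⊓ @LocallyOfFinitePresentation) (fun X Y f hf => hf.1)
    (fun X Y f (hf : IsOpenImmersion f) => ⟨inferInstance, inferInstance⟩)
    (fun {X Y} f hf => by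
      obtain ⟨_, _⟩ := hf
      exact Scheme.Hom.isOpenMap f)

theorem good_zariski : Good Scheme.zariskiPrecoverage.{u} :=
  good_precoverage @IsOpenImmersion (fun X Y f (hf : IsOpenImmersion f) => inferInstance) (fun _ _ _ h => h)
    (fun {X Y} f hf => by
      have : IsOpenImmersion f := hf
      exact f.isOpenEmbedding.isOpenMap)

end AdeqModLib
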