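import Groth.Agent.AdeqModLib.Sect
import Groth.Agent.AdeqModLib.Good
import Groth.Agent.AdeqLib.MultiDescent

/-!
Adequate modules are adequate on every affine object.
-/

set_option autoImplicit false
set_option maxHeartbeats 1600000
universe u

open CategoryTheory CategoryTheory.Limits AlgebraicGeometry Opposite TensorProduct
open AdeqLib

noncomputable section

namespace AdeqModLib

variable {K : Precoverage Scheme.{u}} [BigSite.OSh K] {S : Scheme.{u}} (M : BigSite.Mod K S)

theorem res_iso_bijective {U V : Over S} (ε : V ≅ U) : Function.Bijective (res M ε.hom) := by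
  refine ⟨fun x y h => ?_, fun y => ⟨res M ε.inv y, ?_⟩⟩
  · have h' := congrArg (res M ε.inv) h
    rwa [← res_comp, ← res_comp, ε.inv_hom_id, res_id, res_id] at h'
  · rw [← res_comp, ε.hom_inv_id, res_id]

section restr

variable {R : CommRingCat.{u}} (a : Spec R ⟶ S) {R' : CommRingCat.{u}} [Algebra R R'] {a' : Spec R' ⟶ S}
  (h : Spec.map (CommRingCat.ofHom (algebraMap R R')) ≫ a = a')

/-- The objects attached to an algebra over the new ring. -/
def soIso (B' : Adeq.Alg R') : so a' B' ≅ so a (rB B') :=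
  Over.isoMk (Iso.refl _) (by
    subst h
    refine (Category.id_comp _).trans ?_
    change Spec.map (CommRingCat.ofHom ((algebraMap R' B').comp (algebraMap R R'))) ≫ a = _
    rw [CommRingCat.ofHom_comp, Spec.map_comp, Category.assoc]
    rfl)

/-- Sections over the new ring. -/
def restrHom : (Adeq.restr R R').obj ((Adeq.toMVF K a).obj M) ⟶ (Adeq.toMVF K a').obj M :=
  mkHom (fun B' => res M (soIso a h B').hom)
    (fun B' b x => by
      refine (res_smul M (soIso a h B').hom (Adeq.toSect K a (rB B') b) x).trans ?_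
      refine congrArg (fun r : (BigSite.ORing K S).obj.obj (op (so a' B')) => r • res M (soIso a h B').hom x) ?_
      apply ULift.ext
      rfl)
    (fun {B₁ B₂} g x => by
      change res M _ (res M _ x) = res M _ (res M _ x)
      refine (res_comp M _ _ x).symm.trans (Eq.trans ?_ (res_comp M _ _ x))
      exact congrArg (fun k => res M k x) (Over.OverMorphism.ext
        ((Category.id_comp _).trans (Category.comp_id _).symm)))

include h

theorem isIso_restrHom : IsIso (restrHom M a h) :=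
  isIso_of_bijective _ fun B' => res_iso_bijective M (soIso a h B')

theorem adequate_restr_iff :
    Adeq.adequate R' ((Adeq.restr R R').obj ((Adeq.toMVF K a).obj M)) ↔
      Adeq.adequate R' ((Adeq.toMVF K a').obj M) := by
  have := isIso_restrHom M a h
  exact (Adeq.adequate R').prop_iff_of_iso (asIso (restrHom M a h))

end restr

theorem adequate_of_factor {R R' : CommRingCat.{u}} {a : Spec R ⟶ S} {a' : Spec R' ⟶ S} (c : Spec R' ⟶ Spec R)
    (h : c ≫ a = a') (ha : Adeq.adequate R ((Adeq.toMVF K a).obj M)) :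
    Adeq.adequate R' ((Adeq.toMVF K a').obj M) := by
  letI : Algebra R R' := (Spec.preimage c).hom.toAlgebra
  refine (adequate_restr_iff M a (R' := R') ?_).1 (adequate_restr ha)
  rw [← h]
  congr 1
  exact Spec.map_preimage c

theorem alg_commutes {A : Type u} [CommRing A] {X Y : Adeq.Alg A} (g : X ⟶ Y) (r : A) :
    g.hom (algebraMap A X r) = algebraMap A Y r := g.hom.commutes r

section maps

variable {A : CommRingCat.{u}} (b : Spec A ⟶ S) {Z : Over S}

/-- The ring map of a map into an affine object. -/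
def ghom {C : Adeq.Alg A} (p : Z ⟶ so b C) : (C : Type u) →+* Γ(Z.left, ⊤) :=
  ((Scheme.ΓSpecIso (CommRingCat.of C)).inv ≫ Scheme.Hom.appTop (Y := Spec (CommRingCat.of C)) p.left).hom

theorem eq_ghom {C : Adeq.Alg A} (p : Z ⟶ so b C) :
    p.left = Z.left.toSpecΓ ≫ Spec.map (CommRingCat.ofHom (ghom b p)) :=
  eq_toSpecΓ (R := CommRingCat.of C) p.left

theorem ghom_comp {C C' : Adeq.Alg A} (p : Z ⟶ so b C') (g : C ⟶ C') (x : C) :
    ghom b (p ≫ sm b g) x = ghom b p (g.hom x) := by
  have h : Z.left.toSpecΓ ≫ Spec.map (CommRingCat.ofHom (ghom b (p ≫ sm b g))) =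
      Z.left.toSpecΓ ≫ Spec.map (CommRingCat.ofHom g.hom.toRingHom ≫ CommRingCat.ofHom (ghom b p)) := by
    rw [← eq_ghom, Spec.map_comp, ← Category.assoc, ← eq_ghom]
    rfl
  exact congrArg (fun k : CommRingCat.of C ⟶ Γ(Z.left, ⊤) => k x) (specHom_injective _ _ h)

theorem ghom_ext {C : Adeq.Alg A} {p q : Z ⟶ so b C} (h : ∀ x, ghom b p x = ghom b q x) : p = q :=
  Over.OverMorphism.ext (by rw [eq_ghom b p, eq_ghom b q, RingHom.ext h])

/-- A map into the base change from a map into an affine object and a ring map. -/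
theorem exists_lift_tensor (A₂ : Type u) [CommRing A₂] [Algebra A A₂] (C : Adeq.Alg A) (p : Z ⟶ so b C)
    (e₁ : A₂ →+* Γ(Z.left, ⊤)) (he : ∀ r : A, e₁ (algebraMap A A₂ r) = ghom b p (algebraMap A C r)) :
    ∃ w : Z ⟶ so b (rB (pB A₂ C)), w ≫ sm b (Adeq.Alg.unit A A₂ C) = p ∧
      ∀ (a : A₂) (x : C), ghom b w (a ⊗ₜ[A] x) = e₁ a * ghom b p x := by
  letI : Algebra A Γ(Z.left, ⊤) := ((ghom b p).comp (algebraMap A (C : Type u))).toAlgebra
  let f₁ : A₂ →ₐ[A] Γ(Z.left, ⊤) := { e₁ with commutes' := he }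
  let f₂ : (C : Type u) →ₐ[A] Γ(Z.left, ⊤) := { ghom b p with commutes' := fun r => rfl }
  let χ : CommRingCat.of (A₂ ⊗[A] C) ⟶ Γ(Z.left, ⊤) :=
    CommRingCat.ofHom (Algebra.TensorProduct.productMap f₁ f₂).toRingHom
  have hχ : ∀ (a : A₂) (x : C), χ (a ⊗ₜ[A] x) = e₁ a * ghom b p x := fun a x =>
    Algebra.TensorProduct.productMap_apply_tmul f₁ f₂ a x
  let w₀ : Z.left ⟶ (so b (rB (pB A₂ C))).left := Z.left.toSpecΓ ≫ Spec.map χ
  have hw₁ : w₀ ≫ (sm b (Adeq.Alg.unit A A₂ C)).left = p.left := by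
    refine (Category.assoc _ _ _).trans ?_
    refine (congrArg (Z.left.toSpecΓ ≫ ·) (Spec.map_comp _ χ).symm).trans ?_
    rw [eq_ghom b p]
    congr 2
    ext x
    exact (hχ 1 x).trans (by rw [map_one, one_mul]; rfl)
  let w : Z ⟶ so b (rB (pB A₂ C)) := Over.homMk w₀ (by
    rw [← Over.w (sm b (Adeq.Alg.unit A A₂ C)), ← Category.assoc, hw₁, Over.w p])
  refine ⟨w, Over.OverMorphism.ext hw₁, fun a x => ?_⟩
  have h : χ = CommRingCat.ofHom (ghom b w) :=
    specHom_injective χ (CommRingCat.ofHom (ghom b w)) (eq_ghom b w)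
  exact (congrArg (fun k : CommRingCat.of (A₂ ⊗[A] C) ⟶ Γ(Z.left, ⊤) => k (a ⊗ₜ[A] x)) h).symm.trans (hχ a x)

/-- Two maps into spectra agreeing on a base give a map into the spectrum of the tensor product. -/
theorem exists_lift_pair (A₁ A₂ : Type u) [CommRing A₁] [Algebra A A₁] [CommRing A₂] [Algebra A A₂] (B : Adeq.Alg A)
    (p : Z ⟶ so b (rB (pB A₁ B))) (q : Z ⟶ so b (rB (pB A₂ B)))
    (hpq : p ≫ sm b (Adeq.Alg.unit A A₁ B) = q ≫ sm b (Adeq.Alg.unit A A₂ B)) :
    ∃ w : Z ⟶ so b (rB (pB A₂ (rB (pB A₁ B)))),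
      w ≫ sm b (Adeq.Alg.unit A A₂ (rB (pB A₁ B))) = p ∧
      w ≫ sm b ((Adeq.Alg.restr A A₂).map ((Adeq.Alg.baseChange A A₂).map (Adeq.Alg.unit A A₁ B))) = q := by
  have hB : ∀ x : B, ghom b p ((Adeq.Alg.unit A A₁ B).hom x) = ghom b q ((Adeq.Alg.unit A A₂ B).hom x) := fun x => by
    rw [← ghom_comp, ← ghom_comp, hpq]
  obtain ⟨w, hw, hval⟩ := exists_lift_tensor b A₂ (rB (pB A₁ B)) p
    ((ghom b q).comp (Algebra.TensorProduct.includeLeftRingHom : A₂ →+* A₂ ⊗[A] (B : Type u))) (fun r => by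
      have h := hB (algebraMap A B r)
      exact (congrArg (ghom b q) (alg_commutes (Adeq.Alg.unit A A₂ B) r).symm).trans
        (h.symm.trans (congrArg (ghom b p) (alg_commutes (Adeq.Alg.unit A A₁ B) r))))
  refine ⟨w, hw, ghom_ext b fun y => ?_⟩
  induction y using TensorProduct.induction_on with
  | zero => exact (map_zero _).trans (map_zero _).symm
  | add y z hy hz =>
    exact (map_add _ y z).trans ((congrArg₂ (· + ·) hy hz).trans (map_add _ y z).symm)
  | tmul c x =>
    refine (ghom_comp b w ((Adeq.Alg.restr A A₂).map ((Adeq.Alg.baseChange A A₂).map (Adeq.Alg.unit A A₁ B)))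
      (c ⊗ₜ[A] x)).trans ((hval c ((Adeq.Alg.unit A A₁ B).hom x)).trans ?_)
    refine (congrArg (ghom b q (c ⊗ₜ[A] (1 : B)) * ·) (hB x)).trans ?_
    refine (map_mul (ghom b q) _ _).symm.trans (congrArg (ghom b q) ?_)
    change (c ⊗ₜ[A] (1 : B)) * ((1 : A₂) ⊗ₜ[A] x) = c ⊗ₜ[A] x
    rw [Algebra.TensorProduct.tmul_mul_tmul, mul_one, one_mul]

end maps

/-- An adequate module is adequate at every affine object. -/
theorem adequate_toMVF (hK : Good K) (hM : Adeq.adequateMod K S M) {A : CommRingCat.{u}} (b : Spec A ⟶ S) :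
    Adeq.adequate A ((Adeq.toMVF K b).obj M) := by
  obtain ⟨ι, R, a, hcov, hadq⟩ := hM
  obtain ⟨n, A', φ, j, c, hcov', hfac⟩ := hK.refine' a hcov b
  letI : ∀ k, Algebra A (A' k) := fun k => (φ k).hom.toAlgebra
  have hmem : ∀ B : Adeq.Alg A, Sieve.ofArrows (fun k => so b (rB (pB (A' k) B)))
      (fun k => sm b (Adeq.Alg.unit A (A' k) B)) ∈ QuotSh.J K S (so b B) := fun B =>
    ofArrows_mem _ (hK.baseChange (fun k => (A' k : Type u)) hcov' B)
  refine adequate_multiDescent ((Adeq.toMVF K b).obj M) (fun k => (A' k : Type u))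
    (fun k => (adequate_restr_iff M b (R' := A' k) rfl).2 (adequate_of_factor M (c k) (hfac k) (hadq (j k))))
    (fun B x hx => eq_zero_of_res M _ (hmem B) x hx) (fun B y hy => ?_)
  refine exists_glue M _ (hmem B) y fun k l Z p q hpq => ?_
  obtain ⟨w, hp, hq⟩ := exists_lift_pair b (A' k) (A' l) B p q hpq
  rw [← hp, ← hq]
  exact (res_comp M _ w (y k)).trans ((congrArg (res M w) (hy k l)).trans (res_comp M _ w (y l)).symm)

section pull

variable {T : Scheme.{u}} (f : T ⟶ S) {R : CommRingCat.{u}} (a : Spec R ⟶ T)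

/-- The objects attached to an algebra along a morphism. -/
def soIsoMap (B : Adeq.Alg R) : (Over.map f).obj (so a B) ≅ so (a ≫ f) B :=
  Over.isoMk (Iso.refl _) (by
    refine (Category.id_comp _).trans ?_
    exact (Category.assoc _ _ _).symm)

/-- Sections of the pullback. -/
def pullHom : (Adeq.toMVF K (a ≫ f)).obj M ⟶ (Adeq.toMVF K a).obj ((BigSite.pullMod K f).obj M) :=
  mkHom (fun B => res M (soIsoMap f a B).hom)
    (fun B b x => by
      refine (res_smul M (soIsoMap f a B).hom (Adeq.toSect K (a ≫ f) B b) x).trans ?_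
      refine congrArg (fun r : (BigSite.ORing K S).obj.obj (op ((Over.map f).obj (so a B))) =>
        r • res M (soIsoMap f a B).hom x) ?_
      apply ULift.ext
      rfl)
    (fun {B₁ B₂} g x => by
      change res M _ (res M _ x) = res M ((Over.map f).map _) (res M _ x)
      refine (res_comp M _ _ x).symm.trans (Eq.trans ?_ (res_comp M _ _ x))
      exact congrArg (fun k => res M k x) (Over.OverMorphism.ext
        ((Category.id_comp _).trans (Category.comp_id _).symm)))

theorem adequate_pull_iff :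
    Adeq.adequate R ((Adeq.toMVF K a).obj ((BigSite.pullMod K f).obj M)) ↔
      Adeq.adequate R ((Adeq.toMVF K (a ≫ f)).obj M) := by
  have := isIso_of_bijective (pullHom M f a) fun B => res_iso_bijective M (soIsoMap f a B)
  exact ((Adeq.adequate R).prop_iff_of_iso (asIso (pullHom M f a))).symm

end pull

theorem adequateMod_iff (hK : Good K) : Adeq.adequateMod K S M ↔
    ∀ (A : CommRingCat.{u}) (b : Spec A ⟶ S), Adeq.adequate A ((Adeq.toMVF K b).obj M) := by
  refine ⟨fun h A b => adequate_toMVF M hK h b, fun h => ?_⟩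
  obtain ⟨ι, R, a, ha⟩ := hK.affineCover S
  exact ⟨ι, R, a, ha, fun i => h _ _⟩

theorem adequateMod_pull (hK : Good K) {T : Scheme.{u}} (f : T ⟶ S) (hM : Adeq.adequateMod K S M) :
    Adeq.adequateMod K T ((BigSite.pullMod K f).obj M) :=
  (adequateMod_iff _ hK).2 fun _ b => (adequate_pull_iff M f b).2 (adequate_toMVF M hK hM _)

theorem adequateMod_of_cover (hK : Good K) {ι : Type u} (T : ι → Scheme.{u}) (f : ∀ i, T i ⟶ S)
    (hcov : Presieve.ofArrows T f ∈ K.coverings S)
    (h : ∀ i, Adeq.adequateMod K (T i) ((BigSite.pullMod K (f i)).obj M)) : Adeq.adequateMod K S M := by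
  choose κ R a ha hadq using h
  exact ⟨Σ i, κ i, fun p => R p.1 p.2, fun p => a p.1 p.2 ≫ f p.1, hK.trans f hcov a ha,
    fun p => (adequate_pull_iff M (f p.1) (a p.1 p.2)).1 (hadq p.1 p.2)⟩

end AdeqModLib
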