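import Groth.Agent.AdeqLib.Amitsur
import Groth.Agent.AmitsurCechLib.Basic

/-!
The Amitsur complex with values in an adequate functor.
-/

set_option autoImplicit false
set_option maxHeartbeats 800000
universe u

open CategoryTheory CategoryTheory.Limits TensorProduct
open AdeqLib AmitsurCechLib

noncomputable section

namespace AdeqModLib

variable (R A : Type u) [CommRing R] [CommRing A] [Algebra R A]

/-- The terms of the complex are iterated tensor products. -/
theorem exists_equiv_tensor (n : ℕ) : Nonempty (X R A (n + 1) ≃ₐ[R] A ⊗[R] X R A n) := by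
  obtain ⟨g, hg⟩ := exists_desc R A (n := n + 1) (S := A ⊗[R] X R A n)
    (Fin.cases Algebra.TensorProduct.includeLeft
      fun j => (Algebra.TensorProduct.includeRight : X R A n →ₐ[R] A ⊗[R] X R A n).comp (ι R A n j))
  let h : A ⊗[R] X R A n →ₐ[R] X R A (n + 1) :=
    Algebra.TensorProduct.lift (ι R A (n + 1) 0) (δ R A n 0) fun _ _ => Commute.all _ _
  have hδ : ∀ j, g.comp (ι R A (n + 1) (Fin.succ j)) =
      (Algebra.TensorProduct.includeRight : X R A n →ₐ[R] A ⊗[R] X R A n).comp (ι R A n j) := fun j => hg _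
  have hι : ∀ j, (δ R A n 0).comp (ι R A n j) = ι R A (n + 1) (Fin.succ j) := fun j => by
    rw [δ_ι, Fin.succAbove_zero]
  refine ⟨AlgEquiv.ofAlgHom g h ?_ ?_⟩
  · refine Algebra.TensorProduct.ext (AlgHom.ext fun a => ?_) (algHom_ext R A fun j => AlgHom.ext fun a => ?_)
    · have h0 := AlgHom.congr_fun (hg 0) a
      simp [h]
      simpa using h0
    · have h1 := AlgHom.congr_fun (hι j) a
      have h2 := AlgHom.congr_fun (hδ j) a
      simp only [AlgHom.comp_apply] at h1 h2
      simp [h, h1, h2]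
  · refine algHom_ext R A fun j => AlgHom.ext fun a => ?_
    induction j using Fin.cases with
    | zero =>
      have h0 := AlgHom.congr_fun (hg 0) a
      simp only [AlgHom.comp_apply] at h0
      simp [h, h0]
    | succ j =>
      have h1 := AlgHom.congr_fun (hι j) a
      have h2 := AlgHom.congr_fun (hδ j) a
      simp only [AlgHom.comp_apply] at h1 h2
      simp [h, h1, h2]

theorem flat_X [Module.Flat R A] : ∀ n, Module.Flat R (X R A n)
  | 0 => by
    obtain ⟨g, hg⟩ := exists_desc R A (n := 0) (S := A) fun _ => AlgHom.id R A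
    exact Module.Flat.of_linearEquiv (AlgEquiv.ofAlgHom g (ι R A 0 0)
      (hg 0) (algHom_ext R A fun j => by
        rw [AlgHom.comp_assoc, hg, AlgHom.comp_id, AlgHom.id_comp, show j = 0 from Fin.fin_one_eq_zero j])).toLinearEquiv
  | n + 1 => by
    have := flat_X n
    obtain ⟨e⟩ := exists_equiv_tensor R A n
    exact Module.Flat.of_linearEquiv e.toLinearEquiv

theorem exact_rTensor [Module.FaithfullyFlat R A] (M : Type (u + 1)) [AddCommGroup M] [Module R M] (n : ℕ)
    (x : X R A (n + 1) ⊗[R] M) (hx : (d R A (n + 1)).rTensor M x = 0) : ∃ y, (d R A n).rTensor M y = x := by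
  have hsq : d R A (n + 1) ∘ₗ d R A n = 0 := LinearMap.ext fun x => by
    have h := congrArg (fun k => k.hom x) ((AmitsurCechLib.K R A).d_comp_d n (n + 1) (n + 2))
    change ((AmitsurCechLib.K R A).d (n + 1) (n + 2)).hom (((AmitsurCechLib.K R A).d n (n + 1)).hom x) = 0 at h
    rwa [K_d, K_d] at h
  obtain ⟨s, hs₀, hs⟩ := exists_contraction R A
  have hδ : ∀ (m : ℕ) (i : Fin (m + 2)) (w : A ⊗[R] X R A m),
      (δ R A m i).toLinearMap.lTensor A w = Algebra.TensorProduct.map (AlgHom.id R A) (δ R A m i) w :=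
    fun m i w => rfl
  have hexp : ∀ (m : ℕ) (w : A ⊗[R] X R A m), (d R A m).lTensor A w =
      ∑ i : Fin (m + 2), (-1 : ℤ) ^ (i : ℕ) • (δ R A m i).toLinearMap.lTensor A w := fun m w => by
    rw [d, ← LinearMap.coe_lTensorHom, map_sum, LinearMap.sum_apply]
    simp only [map_zsmul, LinearMap.smul_apply, LinearMap.coe_lTensorHom]
  have hid : (s (n + 1)).toLinearMap ∘ₗ (d R A (n + 1)).lTensor A + (d R A n).lTensor A ∘ₗ (s n).toLinearMap =
      LinearMap.id := by
    refine LinearMap.ext fun z => ?_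
    have h0 := AlgHom.congr_fun (hs₀ (n + 1)) z
    simp only [AlgHom.comp_apply, AlgHom.id_apply] at h0
    have h1 : ∀ i : Fin (n + 2), s (n + 1) ((δ R A (n + 1) i.succ).toLinearMap.lTensor A z) =
        (δ R A n i).toLinearMap.lTensor A (s n z) := fun i => by
      rw [hδ, hδ]
      exact AlgHom.congr_fun (hs n i) z
    simp only [LinearMap.add_apply, LinearMap.comp_apply, LinearMap.id_apply, AlgHom.toLinearMap_apply, hexp]
    rw [map_sum, Fin.sum_univ_succ]
    simp only [map_zsmul, map_neg, h1, Fin.val_zero, pow_zero, one_smul, hδ (n + 1) 0, h0, Fin.val_succ, pow_succ,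
      mul_neg, mul_one, neg_smul, Finset.sum_neg_distrib, neg_add_cancel_right]
  have key : Function.Exact ((d R A n).rTensor M) ((d R A (n + 1)).rTensor M) := by
    rw [← Module.FaithfullyFlat.lTensor_exact_iff_exact R A]
    intro z
    refine ⟨fun hz => ?_, fun ⟨y, hy⟩ => ?_⟩
    · have hassoc : ∀ {P Q : Type u} [AddCommGroup P] [Module R P] [AddCommGroup Q] [Module R Q] (f : P →ₗ[R] Q)
          (w : (A ⊗[R] P) ⊗[R] M), TensorProduct.assoc R A Q M ((f.lTensor A).rTensor M w) =
            (f.rTensor M).lTensor A (TensorProduct.assoc R A P M w) := by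
        intro P Q _ _ _ _ f w
        induction w using TensorProduct.induction_on with
        | zero => simp
        | add p q hp hq => simp only [map_add, hp, hq]
        | tmul t m =>
          induction t using TensorProduct.induction_on with
          | zero => simp
          | tmul a b => simp
          | add a b ha hb => simp only [TensorProduct.add_tmul, map_add, ha, hb]
      obtain ⟨w, rfl⟩ := (TensorProduct.assoc R A (X R A (n + 1)) M).surjective z
      rw [← hassoc, LinearEquiv.map_eq_zero_iff] at hz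
      have h := congrArg (fun f => f.rTensor M w) hid
      simp only [LinearMap.rTensor_add, LinearMap.rTensor_id, LinearMap.add_apply, LinearMap.id_apply,
        LinearMap.rTensor_comp_apply, hz, map_zero, zero_add] at h
      exact ⟨_, (hassoc _ _).symm.trans (congrArg (TensorProduct.assoc R A (X R A (n + 1)) M) h)⟩
    · rw [← hy, ← LinearMap.comp_apply, ← LinearMap.lTensor_comp, ← LinearMap.rTensor_comp, hsq,
        LinearMap.rTensor_zero, LinearMap.lTensor_zero, LinearMap.zero_apply]
  exact (key x).1 hx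

variable {R A}

/-- The comparison of a value at a flat algebra with the tensor product. -/
theorem exists_flat_equiv {F : Adeq.MVF R} (hF : Adeq.adequate R F) :
    ∃ e : ∀ (T : Type u) [CommRing T] [Algebra R T], T ⊗[R] F.obj (Adeq.pt (Adeq.algOf R R)) →+
        F.obj (Adeq.pt (Adeq.algOf R T)),
      (∀ (T : Type u) [CommRing T] [Algebra R T] [Module.Flat R T], Function.Bijective (e T)) ∧
      ∀ (T T' : Type u) [CommRing T] [Algebra R T] [CommRing T'] [Algebra R T'] (f : T →ₐ[R] T') (z),
        tr F (CommAlgCat.ofHom f : Adeq.algOf R T ⟶ Adeq.algOf R T') (e T z) =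
          e T' (f.toLinearMap.rTensor _ z) := by
  obtain ⟨M, N, ιF, φ, hinj, hzero, hex⟩ := exists_embedding hF
  let j : F.obj (Adeq.pt (Adeq.algOf R R)) →ₗ[R] M :=
    (TensorProduct.lid R M).toLinearMap ∘ₗ (el M (Adeq.algOf R R)).toLinearMap ∘ₗ ap ιF (Adeq.algOf R R)
  have hj : Function.Injective j := (TensorProduct.lid R M).injective.comp
    ((el M (Adeq.algOf R R)).injective.comp (hinj _))
  have hjφ : Function.Exact j φ.hom := fun m => by
    refine ⟨fun hm => ?_, ?_⟩
    · obtain ⟨y, hy⟩ := hex _ ((el M (Adeq.algOf R R)).symm ((1 : R) ⊗ₜ[R] m))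
        ((ap_uh_eq_zero_iff φ _ _).2 (by
          rw [LinearEquiv.apply_symm_apply, LinearMap.baseChange_tmul, hm, TensorProduct.tmul_zero]))
      exact ⟨y, (congrArg (TensorProduct.lid R M) ((congrArg (el M (Adeq.algOf R R)) hy).trans
        (LinearEquiv.apply_symm_apply _ _))).trans ((TensorProduct.lid_tmul m 1).trans (one_smul R m))⟩
    · rintro ⟨y, rfl⟩
      have h := congrArg (TensorProduct.lid R N) ((ap_uh_eq_zero_iff φ _ _).1 (hzero _ y))
      rw [map_zero] at h
      refine Eq.trans ?_ h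
      change φ.hom (TensorProduct.lid R M _) = _
      generalize el M (Adeq.algOf R R) (ap ιF (Adeq.algOf R R) y) = w
      induction w using TensorProduct.induction_on with
      | zero => simp
      | add p q hp hq => simp only [map_add, hp, hq]
      | tmul r m => simp
  have he : ∀ (T : Type u) [CommRing T] [Algebra R T] (z : T ⊗[R] F.obj (Adeq.pt (Adeq.algOf R R))),
      ∃! y, ap ιF (Adeq.algOf R T) y = (el M (Adeq.algOf R T)).symm (j.lTensor T z) := fun T _ _ z => by
    obtain ⟨y, hy⟩ := hex _ ((el M (Adeq.algOf R T)).symm (j.lTensor T z)) ((ap_uh_eq_zero_iff φ _ _).2 (by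
      rw [LinearEquiv.apply_symm_apply]
      change φ.hom.lTensor T (j.lTensor T z) = 0
      rw [← LinearMap.lTensor_comp_apply, hjφ.linearMap_comp_eq_zero, LinearMap.lTensor_zero,
        LinearMap.zero_apply]))
    exact ⟨y, hy, fun y' hy' => hinj _ (hy'.trans hy.symm)⟩
  choose e he using fun T (i₁ : CommRing T) (i₂ : Algebra R T) (z) => (@he T i₁ i₂ z).exists
  refine ⟨fun T _ _ => AddMonoidHom.mk' (e T inferInstance inferInstance) fun x y => hinj _ (by
    rw [map_add, he, he, he, map_add, map_add]), fun T _ _ _ => ⟨fun x y h => ?_, fun y => ?_⟩,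
    fun T T' _ _ _ _ f z => hinj _ ?_⟩
  · have h' := congrArg (fun v => el M (Adeq.algOf R T) (ap ιF (Adeq.algOf R T) v)) h
    simp only [AddMonoidHom.mk'_apply, he, LinearEquiv.apply_symm_apply] at h'
    exact Module.Flat.lTensor_preserves_injective_linearMap j hj h'
  · obtain ⟨z, hz⟩ := (Module.Flat.lTensor_exact T hjφ (el M (Adeq.algOf R T) (ap ιF (Adeq.algOf R T) y))).1
      ((ap_uh_eq_zero_iff φ _ _).1 (hzero _ y))
    refine ⟨z, hinj _ ?_⟩
    rw [AddMonoidHom.mk'_apply, he, hz, LinearEquiv.symm_apply_apply]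
  · rw [AddMonoidHom.mk'_apply, AddMonoidHom.mk'_apply, ap_tr, he, he]
    refine (el M (Adeq.algOf R T')).injective ?_
    rw [el_tr, LinearEquiv.apply_symm_apply, LinearEquiv.apply_symm_apply]
    change f.toLinearMap.rTensor M (j.lTensor T z) = _
    rw [← LinearMap.comp_apply, LinearMap.rTensor_comp_lTensor, ← LinearMap.comp_apply,
      LinearMap.lTensor_comp_rTensor]

/-- Exactness of the Amitsur complex with values in an adequate functor. -/
theorem adequate_amitsur_exact [Module.FaithfullyFlat R A] {F : Adeq.MVF R} (hF : Adeq.adequate R F) (n : ℕ)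
    (x : F.obj (Adeq.pt (Adeq.algOf R (X R A (n + 1)))))
    (hx : ∑ i : Fin (n + 3), (-1 : ℤ) ^ (i : ℕ) •
      tr F (CommAlgCat.ofHom (δ R A (n + 1) i) : Adeq.algOf R (X R A (n + 1)) ⟶ Adeq.algOf R (X R A (n + 1 + 1))) x = 0) :
    ∃ y : F.obj (Adeq.pt (Adeq.algOf R (X R A n))), ∑ i : Fin (n + 2), (-1 : ℤ) ^ (i : ℕ) •
      tr F (CommAlgCat.ofHom (δ R A n i) : Adeq.algOf R (X R A n) ⟶ Adeq.algOf R (X R A (n + 1))) y = x := by
  obtain ⟨e, hbij, hnat⟩ := exists_flat_equiv hF
  have hd : ∀ (m : ℕ) (z : X R A m ⊗[R] F.obj (Adeq.pt (Adeq.algOf R R))),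
      ∑ i : Fin (m + 2), (-1 : ℤ) ^ (i : ℕ) •
        tr F (CommAlgCat.ofHom (δ R A m i) : Adeq.algOf R (X R A m) ⟶ Adeq.algOf R (X R A (m + 1))) (e _ z) =
        e _ ((d R A m).rTensor _ z) := fun m z => by
    rw [d, ← LinearMap.coe_rTensorHom, map_sum, LinearMap.sum_apply, map_sum]
    refine Finset.sum_congr rfl fun i _ => ?_
    rw [map_zsmul, LinearMap.smul_apply, map_zsmul, hnat]
    rfl
  have := flat_X R A (n + 1)
  have := flat_X R A (n + 2)
  obtain ⟨z, rfl⟩ := (hbij _).2 x
  rw [hd, ← map_zero (e _)] at hx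
  obtain ⟨y, rfl⟩ := exact_rTensor R A _ n z ((hbij _).1 hx)
  exact ⟨e _ y, hd n y⟩

end AdeqModLib
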