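import Groth.Agent.AdeqModLib.Adequate
import Groth.Agent.AdeqModLib.Amitsur
import Mathlib.CategoryTheory.Sites.SheafCohomology.Cech
import Mathlib.Algebra.Homology.ShortComplex.Ab

/-!
The Čech complex of an adequate module for a faithfully flat map of affine objects.
-/

set_option autoImplicit false
set_option maxHeartbeats 1600000
universe u

open CategoryTheory CategoryTheory.Limits AlgebraicGeometry Opposite TensorProduct
open AdeqLib AmitsurCechLib

noncomputable section

namespace AdeqModLib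

variable {K : Precoverage Scheme.{u}} [BigSite.OSh K] {S : Scheme.{u}} (M : BigSite.Mod K S) {R : CommRingCat.{u}}
  (a : Spec R ⟶ S) (B : Type u) [CommRing B] [Algebra R B]

/-- The covering family. -/
abbrev cY : PUnit.{u + 2} → Over (Spec R) := fun _ =>
  (Over.mk (Spec.map (CommRingCat.ofHom (algebraMap R B))) : Over (Spec R))

/-- The presheaf on schemes over the affine object. -/
abbrev cP : (Over (Spec R))ᵒᵖ ⥤ AddCommGrpCat.{u + 1} := (Over.map a).op ⋙ ((BigSite.toAbMod K S).obj M).obj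

/-- The Čech complex. -/
abbrev ccx : CochainComplex AddCommGrpCat.{u + 1} ℕ := (cechComplexFunctor (cY B)).obj (cP M a)

/-- The index. -/
abbrev J0 (n : ℕ) : Fin (n + 1) → PUnit.{u + 2} := fun _ => PUnit.unit

/-- The fibre powers as spectra. -/
abbrev cO (n : ℕ) : Over (Spec R) :=
  Over.mk (Spec.map (CommRingCat.ofHom (algebraMap R (X (R : Type u) B n))))

/-- The projections. -/
def cπ (n : ℕ) (j : Fin (n + 1)) : cO (R := R) B n ⟶ cY B PUnit.unit :=
  Over.homMk (Spec.map (CommRingCat.ofHom (ι (R : Type u) B n j).toRingHom)) (by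
    refine (Spec.map_comp _ _).symm.trans (congrArg Spec.map ?_)
    ext r
    exact (ι (R : Type u) B n j).commutes r)

theorem cO_hom_ext {n : ℕ} {Z : Over (Spec R)} {p q : Z ⟶ cO B n} (h : ∀ j, p ≫ cπ B n j = q ≫ cπ B n j) :
    p = q := by
  let gh : (Z.left ⟶ Spec (CommRingCat.of (X (R : Type u) B n))) → (X (R : Type u) B n : Type u) →+* Γ(Z.left, ⊤) :=
    fun p => ((Scheme.ΓSpecIso (CommRingCat.of (X (R : Type u) B n))).inv ≫ p.appTop).hom
  have hgh : ∀ p, p = Z.left.toSpecΓ ≫ Spec.map (CommRingCat.ofHom (gh p)) := fun p =>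
    eq_toSpecΓ (R := CommRingCat.of (X (R : Type u) B n)) p
  let r : (R : Type u) →+* Γ(Z.left, ⊤) := ((Scheme.ΓSpecIso R).inv ≫ Z.hom.appTop).hom
  have hr : ∀ p : Z ⟶ cO B n, (gh p.left).comp (algebraMap R (X (R : Type u) B n)) = r := fun p => by
    refine congrArg CommRingCat.Hom.hom (specHom_injective (R := R) (T := Z.left)
      (CommRingCat.ofHom ((gh p.left).comp (algebraMap R (X (R : Type u) B n)))) (CommRingCat.ofHom r) ?_)
    rw [CommRingCat.ofHom_comp, Spec.map_comp, ← Category.assoc, ← hgh]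
    exact (Over.w p).trans (eq_toSpecΓ Z.hom)
  have hj : ∀ j, (gh p.left).comp (ι (R : Type u) B n j).toRingHom =
      (gh q.left).comp (ι (R : Type u) B n j).toRingHom := fun j => by
    refine congrArg CommRingCat.Hom.hom (specHom_injective (R := CommRingCat.of B) (T := Z.left)
      (CommRingCat.ofHom ((gh p.left).comp (ι (R : Type u) B n j).toRingHom))
      (CommRingCat.ofHom ((gh q.left).comp (ι (R : Type u) B n j).toRingHom)) ?_)
    rw [CommRingCat.ofHom_comp, Spec.map_comp, ← Category.assoc, ← hgh, CommRingCat.ofHom_comp, Spec.map_comp,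
      ← Category.assoc, ← hgh]
    exact congrArg Over.Hom.left (h j)
  letI : Algebra (R : Type u) Γ(Z.left, ⊤) := r.toAlgebra
  let f₁ : X (R : Type u) B n →ₐ[R] Γ(Z.left, ⊤) := { gh p.left with commutes' := RingHom.congr_fun (hr p) }
  let f₂ : X (R : Type u) B n →ₐ[R] Γ(Z.left, ⊤) := { gh q.left with commutes' := RingHom.congr_fun (hr q) }
  have he : f₁ = f₂ := algHom_ext (R : Type u) B fun j => AlgHom.ext fun x => RingHom.congr_fun (hj j) x
  have hge : gh p.left = gh q.left := RingHom.ext fun x => AlgHom.congr_fun he x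
  refine Over.OverMorphism.ext ((hgh p.left).trans (Eq.trans ?_ (hgh q.left).symm))
  rw [hge]

/-- The comparison with the product. -/
def cε (n : ℕ) : cO (R := R) B n ⟶ ∏ᶜ (cY (R := R) B ∘ J0 n) :=
  Pi.lift (f := cY (R := R) B ∘ J0 n) (cπ B n)

theorem cε_π (n : ℕ) (j : Fin (n + 1)) : cε (R := R) B n ≫ Pi.π (cY (R := R) B ∘ J0 n) j = cπ B n j :=
  Pi.lift_π _ _

theorem isIso_cε (n : ℕ) : IsIso (cε (R := R) B n) := by
  let Z : Over (Spec R) := ∏ᶜ (cY (R := R) B ∘ J0 n)
  let p : ∀ j, Z ⟶ cY B PUnit.unit := fun j => Pi.π (cY (R := R) B ∘ J0 n) j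
  let r : (R : Type u) →+* Γ(Z.left, ⊤) := ((Scheme.ΓSpecIso R).inv ≫ Z.hom.appTop).hom
  let g₀ : Fin (n + 1) → (B →+* Γ(Z.left, ⊤)) := fun j =>
    ((Scheme.ΓSpecIso (CommRingCat.of B)).inv ≫ Scheme.Hom.appTop (Y := Spec (CommRingCat.of B)) (p j).left).hom
  have hp : ∀ j, (p j).left = Z.left.toSpecΓ ≫ Spec.map (CommRingCat.ofHom (g₀ j)) := fun j =>
    eq_toSpecΓ (R := CommRingCat.of B) _
  letI : Algebra (R : Type u) Γ(Z.left, ⊤) := r.toAlgebra
  obtain ⟨g, hg⟩ := exists_desc (R : Type u) B (n := n) (S := Γ(Z.left, ⊤)) fun j =>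
    ({ g₀ j with
      commutes' := RingHom.congr_fun (congrArg CommRingCat.Hom.hom (specHom_injective (R := R) (T := Z.left)
        (CommRingCat.ofHom ((g₀ j).comp (algebraMap R B))) (CommRingCat.ofHom r) (by
          rw [CommRingCat.ofHom_comp, Spec.map_comp, ← Category.assoc, ← hp]
          exact (Over.w (p j)).trans (eq_toSpecΓ Z.hom)))) } : B →ₐ[R] Γ(Z.left, ⊤))
  let v : Z ⟶ cO B n := Over.homMk (Z.left.toSpecΓ ≫ Spec.map (CommRingCat.ofHom g.toRingHom)) (by
    refine (Category.assoc _ _ _).trans ?_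
    refine (congrArg (Z.left.toSpecΓ ≫ ·) ((Spec.map_comp _ _).symm.trans (congrArg Spec.map ?_))).trans
      (eq_toSpecΓ Z.hom).symm
    ext x
    exact g.commutes x)
  have hv : ∀ j, v ≫ cπ B n j = p j := fun j => Over.OverMorphism.ext (by
    refine (Category.assoc _ _ _).trans ?_
    refine (congrArg (Z.left.toSpecΓ ≫ ·) ((Spec.map_comp _ _).symm.trans (congrArg Spec.map ?_))).trans (hp j).symm
    ext x
    exact AlgHom.congr_fun (hg j) x)
  refine ⟨v, cO_hom_ext B fun j => ?_, Pi.hom_ext _ _ fun j => ?_⟩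
  · rw [Category.assoc, hv, Category.id_comp]
    exact cε_π B n j
  · rw [Category.assoc, cε_π, hv, Category.id_comp]

/-- The maps of fibre powers attached to cofaces. -/
def cδ (n : ℕ) (i : Fin (n + 2)) : cO (R := R) B (n + 1) ⟶ cO B n :=
  Over.homMk (Spec.map (CommRingCat.ofHom (δ (R : Type u) B n i).toRingHom)) (by
    refine (Spec.map_comp _ _).symm.trans (congrArg Spec.map ?_)
    ext r
    exact (δ (R : Type u) B n i).commutes r)

theorem cδ_π (n : ℕ) (i : Fin (n + 2)) (j : Fin (n + 1)) :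
    cδ (R := R) B n i ≫ cπ B n j = cπ B (n + 1) (i.succAbove j) := by
  refine Over.OverMorphism.ext ((Spec.map_comp _ _).symm.trans (congrArg Spec.map ?_))
  ext x
  exact AlgHom.congr_fun (δ_ι (R : Type u) B n i j) x

/-- A component of a cochain. -/
def cev (n : ℕ) : (ccx M a B).X n →+ (cP M a).obj (op (cO (R := R) B n)) :=
  ((cP M a).map (cε B n).op).hom.comp
    (Pi.π (fun i : Fin (n + 1) → PUnit.{u + 2} => (cP M a).obj (op (∏ᶜ (cY (R := R) B ∘ i)))) (J0 n)).hom

theorem cev_bijective (n : ℕ) : Function.Bijective (cev M a B n) := by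
  have := isIso_cε (R := R) B n
  have h1 : Function.Bijective ((cP M a).map (cε (R := R) B n).op).hom :=
    (ConcreteCategory.bijective_of_isIso ((cP M a).map (cε (R := R) B n).op))
  suffices H : Function.Bijective
      (Pi.π (fun i : Fin (n + 1) → PUnit.{u + 2} => (cP M a).obj (op (∏ᶜ (cY (R := R) B ∘ i)))) (J0 n)).hom from
    h1.comp H
  let e : (ccx M a B).X n ≃ ∀ i : Fin (n + 1) → PUnit.{u + 2}, (cP M a).obj (op (∏ᶜ (cY (R := R) B ∘ i))) :=
    Concrete.productEquiv (fun i : Fin (n + 1) → PUnit.{u + 2} => (cP M a).obj (op (∏ᶜ (cY (R := R) B ∘ i))))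
  have he : ∀ c, (Pi.π (fun i : Fin (n + 1) → PUnit.{u + 2} => (cP M a).obj (op (∏ᶜ (cY (R := R) B ∘ i)))) (J0 n)).hom c =
      e c (J0 n) := fun c => (Concrete.productEquiv_apply_apply
        (fun i : Fin (n + 1) → PUnit.{u + 2} => (cP M a).obj (op (∏ᶜ (cY (R := R) B ∘ i)))) c (J0 n)).symm
  refine ⟨fun c c' h => e.injective (funext fun i => ?_), fun y => ?_⟩
  · obtain rfl : i = J0 n := funext fun _ => rfl
    rw [← he, ← he]
    exact h
  · refine ⟨e.symm fun i => (show J0 n = i from funext fun _ => rfl) ▸ y, ?_⟩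
    exact (he _).trans (congrFun (e.apply_symm_apply _) (J0 n))

/-- A coface map. -/
abbrev ccoface (n : ℕ) (k : Fin (n + 2)) : (ccx M a B).X n ⟶ (ccx M a B).X (n + 1) :=
  CosimplicialObject.δ ((Limits.FormalCoproduct.cosimplicialObjectFunctor
    (Limits.FormalCoproduct.mk _ (cY B)).cech).obj (cP M a)) k

theorem cev_coface (n : ℕ) (k : Fin (n + 2)) (c : (ccx M a B).X n) :
    cev M a B (n + 1) (ccoface M a B n k c) = (cP M a).map (cδ B n k).op (cev M a B n c) := by
  let t : (∏ᶜ (cY (R := R) B ∘ J0 (n + 1)) : Over (Spec R)) ⟶ ∏ᶜ (cY (R := R) B ∘ J0 n) :=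
    Pi.lift (f := cY (R := R) B ∘ J0 n) fun j => Pi.π (cY (R := R) B ∘ J0 (n + 1)) (k.succAbove j)
  have h : ccoface M a B n k ≫ Pi.π (fun i : Fin (n + 2) → PUnit.{u + 2} =>
      (cP M a).obj (op (∏ᶜ (cY (R := R) B ∘ i)))) (J0 (n + 1)) =
      Pi.π (fun i : Fin (n + 1) → PUnit.{u + 2} => (cP M a).obj (op (∏ᶜ (cY (R := R) B ∘ i)))) (J0 n) ≫
        (cP M a).map t.op :=
    Pi.lift_π _ _
  have h' := ConcreteCategory.congr_hom h c
  refine (congrArg ((cP M a).map (cε (R := R) B (n + 1)).op) h').trans ?_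
  change ((cP M a).map t.op ≫ (cP M a).map (cε (R := R) B (n + 1)).op) _ =
    ((cP M a).map (cε B n).op ≫ (cP M a).map (cδ (R := R) B n k).op) _
  rw [← Functor.map_comp, ← Functor.map_comp, ← op_comp, ← op_comp]
  have : cε (R := R) B (n + 1) ≫ t = cδ (R := R) B n k ≫ cε B n := Pi.hom_ext _ _ fun j => by
    rw [Category.assoc, Category.assoc, cε_π, Pi.lift_π, cε_π, cδ_π]
  rw [this]
  rfl

theorem cev_d (n : ℕ) (c : (ccx M a B).X n) : cev M a B (n + 1) ((ccx M a B).d n (n + 1) c) =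
    ∑ i : Fin (n + 2), (-1 : ℤ) ^ (i : ℕ) • (cP M a).map (cδ B n i).op (cev M a B n c) := by
  let C : CosimplicialObject AddCommGrpCat.{u + 1} := (Limits.FormalCoproduct.cosimplicialObjectFunctor
    (Limits.FormalCoproduct.mk _ (cY (R := R) B)).cech).obj (cP M a)
  have hd : (ccx M a B).d n (n + 1) = ∑ i : Fin (n + 2), ((-1 : ℤ) ^ (i : ℕ)) • ccoface M a B n i :=
    CochainComplex.of_d (fun n => C.obj (SimplexCategory.mk n)) (AlgebraicTopology.AlternatingCofaceMapComplex.objD C) n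
  rw [hd]
  change cev M a B (n + 1) (AddCommGrpCat.homAddEquiv (∑ i : Fin (n + 2), ((-1 : ℤ) ^ (i : ℕ)) • ccoface M a B n i) c) = _
  rw [map_sum, AddMonoidHom.finset_sum_apply, map_sum]
  refine Finset.sum_congr rfl fun i _ => ?_
  rw [map_zsmul, AddMonoidHom.smul_apply, map_zsmul]
  exact congrArg _ (cev_coface M a B n i c)

theorem cech_exactAt (hK : Good K) (hM : Adeq.adequateMod K S M) [Module.FaithfullyFlat R B] (n : ℕ) :
    (ccx M a B).ExactAt (n + 1) := by
  rw [(ccx M a B).exactAt_iff' n (n + 1) (n + 2) (by simp) (by simp), ShortComplex.ab_exact_iff]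
  intro c hc
  have h := congrArg (cev M a B (n + 2)) hc
  obtain ⟨y, hy⟩ := adequate_amitsur_exact (A := B) (adequate_toMVF M hK hM a) n (cev M a B (n + 1) c) ((cev_d M a B (n + 1) c).symm.trans (h.trans (map_zero (cev M a B (n + 2)))))
  obtain ⟨b, rfl⟩ := (cev_bijective M a B n).2 y
  exact ⟨b, (cev_bijective M a B (n + 1)).1 ((cev_d M a B n b).trans hy)⟩

end AdeqModLib
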