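import Groth.Agent.AdeqModLib.Five
import Mathlib.Algebra.Homology.HomologicalComplexAbelian
import Mathlib.Algebra.Homology.HomologicalComplexBiprod

/-!
Short exact sequences of complexes of module-valued functors from elementwise Mayer–Vietoris conditions.
-/

set_option autoImplicit false
universe u

open CategoryTheory CategoryTheory.Limits
open AdeqLib

noncomputable section

namespace AdeqModLib

variable {A : Type u} [CommRing A] {C C₁ C₂ C₃ : CochainComplex (Adeq.MVF A) ℕ}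
  (r₁ : C ⟶ C₁) (r₂ : C ⟶ C₂) (s₁ : C₁ ⟶ C₃) (s₂ : C₂ ⟶ C₃)
  (w : ∀ j B x, ap (s₁.f j) B (ap (r₁.f j) B x) = ap (s₂.f j) B (ap (r₂.f j) B x))

include w

theorem mv_zero : biprod.lift r₁ r₂ ≫ biprod.desc s₁ (-s₂) = 0 := by
  rw [biprod.lift_desc, Preadditive.comp_neg, add_neg_eq_zero]
  exact HomologicalComplex.hom_ext _ _ fun j => hom_ext fun B x => w j B x

variable (hinj : ∀ j B x, ap (r₁.f j) B x = 0 → ap (r₂.f j) B x = 0 → x = 0)
  (hglue : ∀ j B x₁ x₂, ap (s₁.f j) B x₁ = ap (s₂.f j) B x₂ → ∃ x, ap (r₁.f j) B x = x₁ ∧ ap (r₂.f j) B x = x₂)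
  (hsurj : ∀ j B, Function.Surjective (ap (s₁.f j) B))

include hinj hglue hsurj

theorem shortExact_mv : (ShortComplex.mk _ _ (mv_zero r₁ r₂ s₁ s₂ w)).ShortExact := by
  refine HomologicalComplex.shortExact_of_degreewise_shortExact _ fun j => ?_
  have hf : ∀ B x, ap ((biprod.fst : C₁ ⊞ C₂ ⟶ C₁).f j) B (ap ((biprod.lift r₁ r₂).f j) B x) = ap (r₁.f j) B x :=
    fun B x => congrArg (fun φ : C ⟶ C₁ => ap (φ.f j) B x) (biprod.lift_fst r₁ r₂)
  have hs : ∀ B x, ap ((biprod.snd : C₁ ⊞ C₂ ⟶ C₂).f j) B (ap ((biprod.lift r₁ r₂).f j) B x) = ap (r₂.f j) B x :=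
    fun B x => congrArg (fun φ : C ⟶ C₂ => ap (φ.f j) B x) (biprod.lift_snd r₁ r₂)
  have htot : ∀ B (z : ((C₁ ⊞ C₂).X j).obj (Adeq.pt B)),
      ap ((biprod.inl : C₁ ⟶ C₁ ⊞ C₂).f j) B (ap ((biprod.fst : C₁ ⊞ C₂ ⟶ C₁).f j) B z) +
        ap ((biprod.inr : C₂ ⟶ C₁ ⊞ C₂).f j) B (ap ((biprod.snd : C₁ ⊞ C₂ ⟶ C₂).f j) B z) = z :=
    fun B z => congrArg (fun φ : C₁ ⊞ C₂ ⟶ C₁ ⊞ C₂ => ap (φ.f j) B z) biprod.total
  have hl : ∀ B y, ap ((biprod.desc s₁ (-s₂)).f j) B (ap ((biprod.inl : C₁ ⟶ C₁ ⊞ C₂).f j) B y) = ap (s₁.f j) B y :=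
    fun B y => congrArg (fun φ : C₁ ⟶ C₃ => ap (φ.f j) B y) (biprod.inl_desc s₁ (-s₂))
  have hr : ∀ B y, ap ((biprod.desc s₁ (-s₂)).f j) B (ap ((biprod.inr : C₂ ⟶ C₁ ⊞ C₂).f j) B y) =
      -(ap (s₂.f j) B y) :=
    fun B y => congrArg (fun φ : C₂ ⟶ C₃ => ap (φ.f j) B y) (biprod.inr_desc s₁ (-s₂))
  refine
    { exact := (exact_iff _).2 fun B z hz => ?_
      mono_f := (mono_iff _).2 fun B => ?_
      epi_g := (epi_iff _).2 fun B y => ?_ }
  · have hz' : ap (s₁.f j) B (ap ((biprod.fst : C₁ ⊞ C₂ ⟶ C₁).f j) B z) +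
        -(ap (s₂.f j) B (ap ((biprod.snd : C₁ ⊞ C₂ ⟶ C₂).f j) B z)) = 0 := by
      refine Eq.trans ?_ hz
      refine Eq.trans ?_ (congrArg _ (htot B z))
      refine Eq.trans ?_ (map_add _ _ _).symm
      exact (congrArg₂ (· + ·) (hl B _) (hr B _)).symm
    obtain ⟨x, hx₁, hx₂⟩ := hglue j B _ _ (eq_of_sub_eq_zero ((sub_eq_add_neg _ _).trans hz'))
    refine ⟨x, (htot B _).symm.trans (Eq.trans ?_ (htot B z))⟩
    exact congrArg₂ (· + ·) (congrArg _ ((hf B x).trans hx₁)) (congrArg _ ((hs B x).trans hx₂))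
  · refine (injective_iff_map_eq_zero _).2 fun x hx => hinj j B x ?_ ?_
    · exact (hf B x).symm.trans ((congrArg _ hx).trans (map_zero _))
    · exact (hs B x).symm.trans ((congrArg _ hx).trans (map_zero _))
  · obtain ⟨x, hx⟩ := hsurj j B y
    exact ⟨ap ((biprod.inl : C₁ ⟶ C₁ ⊞ C₂).f j) B x, (hl B x).trans hx⟩

/-- Adequacy of the cohomology of a glued object. -/
theorem adequate_homology_mv (H₁ : ∀ n, Adeq.adequate A (C₁.homology n))
    (H₂ : ∀ n, Adeq.adequate A (C₂.homology n)) (H₃ : ∀ n, Adeq.adequate A (C₃.homology n)) (n : ℕ) :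
    Adeq.adequate A (C.homology (n + 1)) := by
  have hS := shortExact_mv r₁ r₂ s₁ s₂ w hinj hglue hsurj
  have H : ∀ m, Adeq.adequate A ((C₁ ⊞ C₂).homology m) := fun m => by
    have := preservesBinaryBiproducts_of_preservesBiproducts
      (HomologicalComplex.homologyFunctor (Adeq.MVF A) (ComplexShape.up ℕ) m)
    exact (Adeq.adequate A).prop_of_iso
      ((HomologicalComplex.homologyFunctor (Adeq.MVF A) (ComplexShape.up ℕ) m).mapBiprod C₁ C₂).symm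
      (adequate_of_shortExact (ShortComplex.Splitting.ofHasBinaryBiproduct _ _).shortExact (H₁ m) (H₂ m))
  exact adequate_middle _ _ _ (hS.homology_exact₃ n (n + 1) rfl) (hS.homology_exact₁ n (n + 1) rfl)
    (hS.homology_exact₂ (n + 1)) (H n) (H₃ n) (H (n + 1)) (H₃ (n + 1))

end AdeqModLib
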