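import Groth.Agent.AdeqModLib.Adequate
import Groth.Agent.AdeqLib.FamilyDescent

/-!
Sheafification does not change presheaves of modules which are adequate on affine objects.
-/

set_option autoImplicit false
set_option maxHeartbeats 800000
universe u

open CategoryTheory CategoryTheory.Limits AlgebraicGeometry Opposite TensorProduct
open AdeqLib

noncomputable section

namespace AdeqModLib

variable {K : Precoverage Scheme.{u}} [BigSite.OSh K] {S : Scheme.{u}}

/-- Values of a presheaf of modules. -/
abbrev psect (P : PresheafOfModules.{u + 1} (BigSite.ORing K S).obj) (U : Over S) : Type (u + 1) := P.obj (op U)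

/-- Restriction of sections of a presheaf of modules. -/
def pres (P : PresheafOfModules.{u + 1} (BigSite.ORing K S).obj) {U V : Over S} (g : V ⟶ U) :
    psect P U →+ psect P V :=
  (P.presheaf.map g.op).hom

theorem pres_comp (P : PresheafOfModules.{u + 1} (BigSite.ORing K S).obj) {U V W : Over S} (g : V ⟶ U) (h : W ⟶ V)
    (x : psect P U) : pres P (h ≫ g) x = pres P h (pres P g x) :=
  congrArg (fun k => k x) (congrArg AddCommGrpCat.Hom.hom (P.presheaf.map_comp g.op h.op))

variable {A : CommRingCat.{u}} (b : Spec A ⟶ S)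

/-- The affine object itself. -/
abbrev top : Over S := so b (Adeq.algOf A A)

/-- Covering sieves of an affine object contain finite families of affine objects. -/
theorem exists_finite_family (hK : Good K) {R : Sieve (top b)} (hR : R ∈ QuotSh.J K S (top b)) :
    ∃ (n : ℕ) (A' : Fin n → Type u) (_ : ∀ k, CommRing (A' k)) (_ : ∀ k, Algebra A (A' k)),
      FaithfulFamily A A' ∧ (∀ k, R (sm b (unitHom (A' k)))) ∧
      Sieve.ofArrows (fun k => so b (Adeq.algOf A (A' k))) (fun k => sm b (unitHom (A' k))) ∈ QuotSh.J K S (top b) := by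
  obtain ⟨ι, Yf, g, hg, hgR⟩ := hK.mem ((GrothendieckTopology.mem_over_iff _ _).1 hR)
  obtain ⟨n, A', φ, j, c, hcov, hfac⟩ := hK.refine' g hg (𝟙 (Spec (CommRingCat.of A)))
  let inst : ∀ k, Algebra A (A' k) := fun k => (φ k).hom.toAlgebra
  refine ⟨n, fun k => A' k, fun k => inferInstance, inst, ?_, fun k => ?_, ofArrows_mem _ hcov⟩
  · obtain ⟨hfl, hsu⟩ := hK.flat A' φ hcov
    exact faithfulFamily_of_flat _ hfl fun p => by
      obtain ⟨k, y, hy⟩ := hsu p
      exact ⟨k, y, hy⟩
  · have e := Sieve.overEquiv_symm_iff (Sieve.overEquiv (top b) R) (sm b (@unitHom A _ (A' k) _ (inst k)))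
    rw [show (Sieve.overEquiv (top b)).symm (Sieve.overEquiv (top b) R) = R from (Sieve.overEquiv (top b)).left_inv R] at e
    refine e.2 ?_
    rw [show (sm b (@unitHom A _ (A' k) _ (inst k))).left = c k ≫ g (j k) from
      ((hfac k).trans (Category.comp_id _)).symm]
    exact Sieve.downward_closed _ (hgR (j k)) (c k)

variable (P : PresheafOfModules.{u + 1} (BigSite.ORing K S).obj)
  (hP : Adeq.adequate A ((Adeq.toMVFPre K b).obj P))

include hP

/-- Sections over affine objects are separated. -/
theorem eq_zero_of_sieve (hK : Good K) {R : Sieve (top b)} (hR : R ∈ QuotSh.J K S (top b)) (x : psect P (top b))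
    (hx : ∀ {V : Over S} (g : V ⟶ top b), R g → pres P g x = 0) : x = 0 := by
  obtain ⟨n, A', _, _, hff, hR', -⟩ := exists_finite_family b hK hR
  exact (adequate_family_descent A' hff hP).1 x fun k => hx _ (hR' k)

/-- Sections over affine objects glue along finite families. -/
theorem exists_pglue {n : ℕ} (A' : Fin n → Type u) [∀ k, CommRing (A' k)] [∀ k, Algebra A (A' k)]
    (hff : FaithfulFamily A A') (y : ∀ k, psect P (so b (Adeq.algOf A (A' k))))
    (hy : ∀ k l, pres P (sm b (CommAlgCat.ofHom (Algebra.TensorProduct.includeLeft : A' l →ₐ[A] A' l ⊗[A] A' k) :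
          Adeq.algOf A (A' l) ⟶ Adeq.algOf A (A' l ⊗[A] A' k))) (y l) =
        pres P (sm b (CommAlgCat.ofHom (Algebra.TensorProduct.includeRight : A' k →ₐ[A] A' l ⊗[A] A' k) :
          Adeq.algOf A (A' k) ⟶ Adeq.algOf A (A' l ⊗[A] A' k))) (y k)) :
    ∃ x : psect P (top b), ∀ k, pres P (sm b (unitHom (A' k))) x = y k :=
  (adequate_family_descent A' hff hP).2 y hy

end AdeqModLib

namespace AdeqModLib

variable {K : Precoverage Scheme.{u}} [BigSite.OSh K] {S : Scheme.{u}}
  (P : PresheafOfModules.{u + 1} (BigSite.ORing K S).obj)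
  (hP : ∀ (A : CommRingCat.{u}) (b : Spec A ⟶ S), Adeq.adequate A ((Adeq.toMVFPre K b).obj P))

/-- The sheafification. -/
abbrev aP : BigSite.Mod K S :=
  (PresheafOfModules.sheafification (𝟙 (BigSite.ORing K S).obj)).obj P

/-- The unit into the sheafification. -/
abbrev etaP : P.presheaf ⟶ (aP P).val.presheaf := CategoryTheory.toSheafify (QuotSh.J K S) P.presheaf

/-- The unit on sections. -/
def eta (U : Over S) : psect P U →+ BigSite.sectMod K (aP P) U := ((etaP P).app (op U)).hom

instance : Presheaf.IsLocallyInjective (QuotSh.J K S) (etaP P) := by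
  change Presheaf.IsLocallyInjective (QuotSh.J K S) (CategoryTheory.toSheafify (QuotSh.J K S) P.presheaf)
  infer_instance

instance : Presheaf.IsLocallySurjective (QuotSh.J K S) (etaP P) := by
  change Presheaf.IsLocallySurjective (QuotSh.J K S) (CategoryTheory.toSheafify (QuotSh.J K S) P.presheaf)
  infer_instance

theorem res_eta {U V : Over S} (g : V ⟶ U) (x : psect P U) : res (aP P) g (eta P U x) = eta P V (pres P g x) :=
  (NatTrans.naturality_apply (etaP P) g.op x).symm

theorem eta_smul (U : Over S) (r : (BigSite.ORing K S).obj.obj (op U)) (x : psect P U) :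
    eta P U (r • x) = r • eta P U x :=
  map_smul (((PresheafOfModules.sheafificationAdjunction (𝟙 (BigSite.ORing K S).obj)).unit.app P).app (op U)).hom r x

include hP

theorem eta_top_injective (hK : Good K) {A : CommRingCat.{u}} (b : Spec A ⟶ S) :
    Function.Injective (eta P (top b)) := by
  refine (injective_iff_map_eq_zero _).2 fun x hx => ?_
  let z : psect P (top b) := 0
  have hR : Presheaf.equalizerSieve (F := P.presheaf) (X := op (top b)) x z ∈ QuotSh.J K S (top b) :=
    Presheaf.equalizerSieve_mem (QuotSh.J K S) (etaP P) (X := op (top b)) x z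
      (hx.trans (map_zero (eta P (top b))).symm)
  exact eq_zero_of_sieve b P (hP A b) hK hR x fun {V} g hg => Eq.trans hg (map_zero (pres P g))

theorem eta_so_injective (hK : Good K) {A : CommRingCat.{u}} (b : Spec A ⟶ S) (C : Adeq.Alg A) :
    Function.Injective (eta P (so b C)) := by
  let b' : Spec (CommRingCat.of (C : Type u)) ⟶ S := Spec.map (CommRingCat.ofHom (algebraMap A C)) ≫ b
  let ε : top b' ≅ so b C := Over.isoMk (Iso.refl _) (by
    refine (Category.id_comp _).trans ?_
    change b' = Spec.map (CommRingCat.ofHom (algebraMap C C)) ≫ b'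
    rw [show CommRingCat.ofHom (algebraMap C C) = 𝟙 (CommRingCat.of (C : Type u)) from rfl, Spec.map_id,
      Category.id_comp])
  intro x y h
  have h' := eta_top_injective P hP hK b' (a₁ := pres P ε.hom x) (a₂ := pres P ε.hom y)
    (by rw [← res_eta, ← res_eta, h])
  have h'' := congrArg (pres P ε.inv) h'
  have hid : ∀ z, pres P (𝟙 (so b C)) z = z := fun z =>
    congrArg (fun k => k z) (congrArg AddCommGrpCat.Hom.hom (P.presheaf.map_id (op (so b C))))
  rwa [← pres_comp, ← pres_comp, ε.inv_hom_id, hid, hid] at h''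

theorem eta_top_surjective (hK : Good K) {A : CommRingCat.{u}} (b : Spec A ⟶ S) :
    Function.Surjective (eta P (top b)) := fun y => by
  have hR := Presheaf.imageSieve_mem (QuotSh.J K S) (etaP P) (U := op (top b)) y
  obtain ⟨n, A', _, _, hff, hR', hmem⟩ := exists_finite_family b hK hR
  choose p hp using hR'
  have hp' : ∀ k, eta P _ (p k) = res (aP P) (sm b (unitHom (A' k))) y := hp
  obtain ⟨x, hx⟩ := exists_pglue b P (hP A b) A' hff p fun k l => eta_so_injective P hP hK b _ (by
    refine (res_eta P _ (p l)).symm.trans (Eq.trans ?_ (res_eta P _ (p k)))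
    refine ((congrArg (res (aP P) _) (hp' l)).trans (res_comp (aP P) _ _ y).symm).trans
      (Eq.trans ?_ ((res_comp (aP P) _ _ y).trans (congrArg (res (aP P) _) (hp' k)).symm))
    refine congrArg (fun g => res (aP P) g y) (Over.OverMorphism.ext ?_)
    change Spec.map _ ≫ Spec.map _ = Spec.map _ ≫ Spec.map _
    rw [← Spec.map_comp, ← Spec.map_comp]
    congr 1
    ext r
    exact (Algebra.TensorProduct.includeLeft : A' l →ₐ[A] A' l ⊗[A] A' k).commutes r |>.trans
      ((Algebra.TensorProduct.includeRight : A' k →ₐ[A] A' l ⊗[A] A' k).commutes r).symm)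
  refine ⟨x, sub_eq_zero.1 (eq_zero_of_res (aP P) _ hmem _ fun k => ?_)⟩
  rw [map_sub, res_eta, hx]
  exact sub_eq_zero.2 (hp' k)

theorem eta_bijective (hK : Good K) {A : CommRingCat.{u}} (b : Spec A ⟶ S) (C : Adeq.Alg A) :
    Function.Bijective (eta P (so b C)) := by
  refine ⟨eta_so_injective P hP hK b C, fun y => ?_⟩
  let b' : Spec (CommRingCat.of (C : Type u)) ⟶ S := Spec.map (CommRingCat.ofHom (algebraMap A C)) ≫ b
  let ε : top b' ≅ so b C := Over.isoMk (Iso.refl _) (by
    refine (Category.id_comp _).trans ?_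
    change b' = Spec.map (CommRingCat.ofHom (algebraMap C C)) ≫ b'
    rw [show CommRingCat.ofHom (algebraMap C C) = 𝟙 (CommRingCat.of (C : Type u)) from rfl, Spec.map_id,
      Category.id_comp])
  obtain ⟨x, hx⟩ := eta_top_surjective P hP hK b' (res (aP P) ε.hom y)
  exact ⟨pres P ε.inv x, by rw [← res_eta, hx, ← res_comp, ε.inv_hom_id, res_id]⟩

omit hP in
/-- The map of values induced by the unit. -/
def etaHom {A : CommRingCat.{u}} (b : Spec A ⟶ S) :
    (Adeq.toMVFPre K b).obj P ⟶ (Adeq.toMVF K b).obj (aP P) :=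
  mkHom (fun C => eta P (so b C)) (fun C c x => eta_smul P (so b C) (Adeq.toSect K b C c) x)
    (fun {C C'} g x => (res_eta P (sm b g) x).symm)

theorem adequate_sheafification (hK : Good K) : Adeq.adequateMod K S (aP P) := by
  refine (adequateMod_iff _ hK).2 fun A b => ?_
  have := isIso_of_bijective (etaHom P b) fun C => eta_bijective P hP hK b C
  exact (Adeq.adequate A).prop_of_iso (asIso (etaHom P b)) (hP A b)

end AdeqModLib
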