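import Groth.Agent.AdeqModLib.Ops
import Groth.Agent.AdeqLib.FamilyH1
import Groth.Agent.AdeqLib.Extension

/-!
Exact sequences of modules on big sites and extensions of adequate modules.
-/

set_option autoImplicit false
set_option maxHeartbeats 1600000
universe u

open CategoryTheory CategoryTheory.Limits AlgebraicGeometry Opposite TensorProduct
open AdeqLib

noncomputable section

namespace AdeqModLib

variable {K : Precoverage Scheme.{u}} [BigSite.OSh K] {S : Scheme.{u}}

/-- A map of modules on sections. -/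
def mapp {M N : BigSite.Mod K S} (f : M ⟶ N) (U : Over S) :
    BigSite.sectMod K M U →+ BigSite.sectMod K N U :=
  (f.val.app (op U)).hom.toAddMonoidHom

theorem res_mapp {M N : BigSite.Mod K S} (f : M ⟶ N) {U V : Over S} (g : V ⟶ U) (x : BigSite.sectMod K M U) :
    res N g (mapp f U x) = mapp f V (res M g x) :=
  (PresheafOfModules.naturality_apply f.val g.op x).symm

theorem mapp_injective {M N : BigSite.Mod K S} (f : M ⟶ N) [Mono f] (U : Over S) :
    Function.Injective (mapp f U) := by
  have : Mono f.val := (SheafOfModules.forget (BigSite.ORing K S)).map_mono f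
  have : Mono (f.val.app (op U)) := (PresheafOfModules.evaluation _ (op U)).map_mono f.val
  exact (ModuleCat.mono_iff_injective (f.val.app (op U))).1 this

variable {M N : BigSite.Mod K S} (f : M ⟶ N)

/-- The map to the sheafified presheaf cokernel. -/
def psi : N ⟶ aP (cokernel ((incl K S).map f)) :=
  ⟨cokernel.π ((incl K S).map f) ≫
    (PresheafOfModules.sheafificationAdjunction (𝟙 (BigSite.ORing K S).obj)).unit.app _⟩

theorem comp_psi : f ≫ psi f = 0 := by
  apply SheafOfModules.hom_ext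
  exact (Category.assoc _ _ _).symm.trans ((congrArg (· ≫ _) (cokernel.condition ((incl K S).map f))).trans zero_comp)

/-- Sections killed by the cokernel map are locally in the image. -/
theorem exists_local_preimage {U : Over S} (x : BigSite.sectMod K N U) (hx : mapp (cokernel.π f) U x = 0) :
    ∃ R ∈ QuotSh.J K S U, ∀ ⦃V : Over S⦄ (g : V ⟶ U), R g → ∃ y, mapp f V y = res N g x := by
  let Q := cokernel ((incl K S).map f)
  let q : psect Q U := ((cokernel.π ((incl K S).map f)).app (op U)).hom x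
  have hq : eta Q U q = 0 := by
    change mapp (psi f) U x = 0
    rw [← cokernel.π_desc f (psi f) (comp_psi f)]
    change mapp (cokernel.desc f (psi f) (comp_psi f)) U (mapp (cokernel.π f) U x) = 0
    rw [hx, map_zero]
  let z : psect Q U := 0
  refine ⟨Presheaf.equalizerSieve (F := Q.presheaf) (X := op U) q z,
    Presheaf.equalizerSieve_mem (QuotSh.J K S) (etaP Q) (X := op U) q z (hq.trans (map_zero (eta Q U)).symm),
    fun V g hg => ?_⟩
  have h0 : ((cokernel.π ((incl K S).map f)).app (op V)).hom (res N g x) = 0 :=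
    (PresheafOfModules.naturality_apply (cokernel.π ((incl K S).map f)) g.op x).trans
      (Eq.trans hg (map_zero (pres Q g)))
  have hex : ((ShortComplex.mk _ _ (cokernel.condition ((incl K S).map f))).map
      (PresheafOfModules.evaluation _ (op V))).Exact :=
    (ShortComplex.exact_cokernel ((incl K S).map f)).map _
  exact (ShortComplex.moduleCat_exact_iff _).1 hex _ h0

/-- Sections killed by the second map of an exact sequence are locally in the image of the first. -/
theorem exists_local_preimage_of_exact {C : ShortComplex (BigSite.Mod K S)} (hC : C.Exact) {U : Over S}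
    (x : BigSite.sectMod K C.X₂ U) (hx : mapp C.g U x = 0) :
    ∃ R ∈ QuotSh.J K S U, ∀ ⦃V : Over S⦄ (g : V ⟶ U), R g → ∃ y, mapp C.f V y = res C.X₂ g x := by
  refine exists_local_preimage C.f x ?_
  have := hC.mono_cokernelDesc
  refine mapp_injective (cokernel.desc C.f C.g C.zero) U (Eq.trans ?_ (map_zero _).symm)
  rw [← cokernel.π_desc C.f C.g C.zero] at hx
  exact hx

theorem exists_local_preimage_of_epi [Epi f] {U : Over S} (x : BigSite.sectMod K N U) :
    ∃ R ∈ QuotSh.J K S U, ∀ ⦃V : Over S⦄ (g : V ⟶ U), R g → ∃ y, mapp f V y = res N g x :=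
  exists_local_preimage f x (by rw [cokernel.π_of_epi]; rfl)

variable {A : CommRingCat.{u}} (b : Spec A ⟶ S)

theorem exists_lift_algOf {Z : Over S} (A₁ A₂ : Type u) [CommRing A₁] [Algebra A A₁] [CommRing A₂] [Algebra A A₂]
    (p : Z ⟶ so b (Adeq.algOf A A₁)) (q : Z ⟶ so b (Adeq.algOf A A₂))
    (h : p ≫ sm b (unitHom A₁) = q ≫ sm b (unitHom A₂)) :
    ∃ w : Z ⟶ so b (Adeq.algOf A (A₁ ⊗[A] A₂)),
      w ≫ sm b (CommAlgCat.ofHom (Algebra.TensorProduct.includeLeft : A₁ →ₐ[A] A₁ ⊗[A] A₂) :
        Adeq.algOf A A₁ ⟶ Adeq.algOf A (A₁ ⊗[A] A₂)) = p ∧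
      w ≫ sm b (CommAlgCat.ofHom (Algebra.TensorProduct.includeRight : A₂ →ₐ[A] A₁ ⊗[A] A₂) :
        Adeq.algOf A A₂ ⟶ Adeq.algOf A (A₁ ⊗[A] A₂)) = q := by
  have he : ∀ r : A, ghom b p (algebraMap A A₁ r) = ghom b q (algebraMap A A₂ r) := fun r => by
    have := congrArg (fun k => ghom b k r) h
    rw [ghom_comp, ghom_comp] at this
    exact this
  letI : Algebra A Γ(Z.left, ⊤) := ((ghom b q).comp (algebraMap A A₂)).toAlgebra
  let f₁ : A₁ →ₐ[A] Γ(Z.left, ⊤) := { ghom b p with commutes' := he }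
  let f₂ : A₂ →ₐ[A] Γ(Z.left, ⊤) := { ghom b q with commutes' := fun r => rfl }
  let χ : CommRingCat.of (A₁ ⊗[A] A₂) ⟶ Γ(Z.left, ⊤) :=
    CommRingCat.ofHom (Algebra.TensorProduct.productMap f₁ f₂).toRingHom
  let i₁ : Adeq.algOf A A₁ ⟶ Adeq.algOf A (A₁ ⊗[A] A₂) :=
    CommAlgCat.ofHom (Algebra.TensorProduct.includeLeft : A₁ →ₐ[A] A₁ ⊗[A] A₂)
  let i₂ : Adeq.algOf A A₂ ⟶ Adeq.algOf A (A₁ ⊗[A] A₂) :=
    CommAlgCat.ofHom (Algebra.TensorProduct.includeRight : A₂ →ₐ[A] A₁ ⊗[A] A₂)
  let w₀ : Z.left ⟶ (so b (Adeq.algOf A (A₁ ⊗[A] A₂))).left := Z.left.toSpecΓ ≫ Spec.map χ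
  have hw₁ : w₀ ≫ (sm b i₁).left = p.left := by
    refine (Category.assoc _ _ _).trans ?_
    refine (congrArg (Z.left.toSpecΓ ≫ ·) (Spec.map_comp _ χ).symm).trans ?_
    rw [eq_ghom b p]
    congr 2
    ext x
    exact (Algebra.TensorProduct.productMap_apply_tmul f₁ f₂ x 1).trans (by rw [map_one, mul_one]; rfl)
  have hw₂ : w₀ ≫ (sm b i₂).left = q.left := by
    refine (Category.assoc _ _ _).trans ?_
    refine (congrArg (Z.left.toSpecΓ ≫ ·) (Spec.map_comp _ χ).symm).trans ?_
    rw [eq_ghom b q]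
    congr 2
    ext x
    exact (Algebra.TensorProduct.productMap_apply_tmul f₁ f₂ 1 x).trans (by rw [map_one, one_mul]; rfl)
  exact ⟨Over.homMk w₀ (by rw [← Over.w (sm b i₁), ← Category.assoc, hw₁, Over.w p]),
    Over.OverMorphism.ext hw₁, Over.OverMorphism.ext hw₂⟩

/-- A surjection of modules with adequate kernel is surjective on affine objects. -/
theorem mapp_top_surjective (hK : Good K) {C : ShortComplex (BigSite.Mod K S)} (hC : C.ShortExact)
    (h₁ : Adeq.adequate A ((Adeq.toMVF K b).obj C.X₁))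
    (hker : ∀ (U : Over S) (x : BigSite.sectMod K C.X₂ U), mapp C.g U x = 0 → ∃ y, mapp C.f U y = x) :
    Function.Surjective (mapp C.g (top b)) := fun x => by
  have := hC.mono_f
  have := hC.epi_g
  obtain ⟨R, hR, hloc⟩ := exists_local_preimage_of_epi C.g x
  obtain ⟨n, A', _, _, hff, hR', hmem⟩ := exists_finite_family b hK hR
  choose y hy using fun k => hloc _ (hR' k)
  have hcomm : ∀ l k, sm b (am A (incL A A' l k)) ≫ sm b (unitHom (A' l)) =
      sm b (am A (incR A A' l k)) ≫ sm b (unitHom (A' k)) := fun l k => by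
    rw [← Functor.map_comp, ← Functor.map_comp]
    refine congrArg (Adeq.specOver b).map (congrArg Quiver.Hom.op (CommAlgCat.hom_ext (AlgHom.ext fun a => ?_)))
    exact (incL A A' l k).commutes a |>.trans ((incR A A' l k).commutes a).symm
  have hd : ∀ l k, mapp C.g _ (res C.X₂ (sm b (am A (incR A A' l k))) (y k) -
      res C.X₂ (sm b (am A (incL A A' l k))) (y l)) = 0 := fun l k => by
    rw [map_sub, ← res_mapp, ← res_mapp, hy, hy, ← res_comp, ← res_comp, hcomm, sub_self]
  choose c hc using fun l k => hker _ _ (hd l k)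
  obtain ⟨e, he⟩ := adequate_family_h1 A' hff h₁ c fun j l k => by
    refine mapp_injective C.f _ ?_
    refine Eq.trans ?_ (map_sub (mapp C.f _) (res C.X₁ (sm b (am A (inc₁ A A' j l k))) (c j k))
      (res C.X₁ (sm b (am A (inc₂ A A' j l k))) (c j l))).symm
    change mapp C.f _ (res C.X₁ (sm b (am A (inc₀ A A' j l k))) (c l k)) = _
    rw [← res_mapp, ← res_mapp, ← res_mapp, hc, hc, hc, map_sub, map_sub, map_sub]
    simp only [← res_comp, ← Functor.map_comp, ← op_comp]
    have e₁ : am A (incR A A' l k) ≫ am A (inc₀ A A' j l k) = am A (incR A A' j k) ≫ am A (inc₁ A A' j l k) :=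
      CommAlgCat.hom_ext (AlgHom.ext fun a => by rfl)
    have e₂ : am A (incL A A' l k) ≫ am A (inc₀ A A' j l k) = am A (incR A A' j l) ≫ am A (inc₂ A A' j l k) :=
      CommAlgCat.hom_ext (AlgHom.ext fun a => by rfl)
    have e₃ : am A (incL A A' j k) ≫ am A (inc₁ A A' j l k) = am A (incL A A' j l) ≫ am A (inc₂ A A' j l k) :=
      CommAlgCat.hom_ext (AlgHom.ext fun a => by simp [am])
    rw [e₁, e₂, e₃]
    abel
  let y' := fun k => y k - mapp C.f _ (e k)
  have hy' : ∀ l k, res C.X₂ (sm b (am A (incL A A' l k))) (y' l) =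
      res C.X₂ (sm b (am A (incR A A' l k))) (y' k) := fun l k => by
    have h := (map_sub (mapp C.f _) (res C.X₁ (sm b (am A (incR A A' l k))) (e k))
      (res C.X₁ (sm b (am A (incL A A' l k))) (e l))).symm.trans
        ((congrArg (mapp C.f _) (he l k)).symm.trans (hc l k))
    replace h := (congrArg₂ (· - ·) (res_mapp C.f (sm b (am A (incR A A' l k))) (e k))
      (res_mapp C.f (sm b (am A (incL A A' l k))) (e l))).trans h
    simp only [y', map_sub]
    rw [sub_eq_sub_iff_sub_eq_sub, ← neg_inj, neg_sub, neg_sub]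
    exact h.symm
  obtain ⟨t, ht⟩ := exists_glue C.X₂ _ hmem y' fun l k Z p q hpq => by
    obtain ⟨w, hp, hq⟩ := exists_lift_algOf b (A' l) (A' k) p q hpq
    rw [← hp, ← hq, res_comp, res_comp]
    exact congrArg (res C.X₂ w) (hy' l k)
  refine ⟨t, sub_eq_zero.1 (eq_zero_of_res C.X₃ _ hmem _ fun k => ?_)⟩
  rw [map_sub, res_mapp, ht]
  have hfg : mapp C.g _ (mapp C.f (so b (Adeq.algOf A (A' k))) (e k)) = 0 :=
    congrArg (fun φ => mapp φ (so b (Adeq.algOf A (A' k))) (e k)) C.zero
  simp only [y', map_sub, hy]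
  rw [hfg, sub_zero, sub_self]

/-- Extensions of adequate modules are adequate. -/
theorem adequateMod_of_shortExact (hK : Good K) (C : ShortComplex (BigSite.Mod K S)) (hC : C.ShortExact)
    (h₁ : Adeq.adequateMod K S C.X₁) (h₃ : Adeq.adequateMod K S C.X₃) : Adeq.adequateMod K S C.X₂ := by
  refine (adequateMod_iff _ hK).2 fun A b => ?_
  have := hC.mono_f
  have hker : ∀ (U : Over S) (x : BigSite.sectMod K C.X₂ U), mapp C.g U x = 0 → ∃ y, mapp C.f U y = x := by
    intro U x hx
    have hex := ((ShortComplex.ShortExact.exact hC).map_of_mono_of_preservesKernel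
      (SheafOfModules.forget (BigSite.ORing K S) ⋙ PresheafOfModules.evaluation _ (op U)) inferInstance inferInstance)
    exact (ShortComplex.moduleCat_exact_iff _).1 hex x hx
  refine adequate_of_shortExact (S := C.map (Adeq.toMVF K b))
    { exact := ?_, mono_f := ?_, epi_g := ?_ } (adequate_toMVF _ hK h₁ b)
    (adequate_toMVF _ hK h₃ b)
  · exact (exact_iff _).2 fun B x hx => hker (so b B) x hx
  · exact (Adeq.toMVF K b).map_mono C.f
  · refine (epi_iff _).2 fun B x₀ => ?_
    suffices h : ∀ x : BigSite.sectMod K C.X₃ (so b B), ∃ y, mapp C.g (so b B) y = x from h x₀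
    intro x
    let b' : Spec (CommRingCat.of (B : Type u)) ⟶ S := Spec.map (CommRingCat.ofHom (algebraMap A B)) ≫ b
    let ε : top b' ≅ so b B := Over.isoMk (Iso.refl _) (by
      refine (Category.id_comp _).trans ?_
      change b' = Spec.map (CommRingCat.ofHom (algebraMap B B)) ≫ b'
      rw [show CommRingCat.ofHom (algebraMap B B) = 𝟙 (CommRingCat.of (B : Type u)) from rfl, Spec.map_id,
        Category.id_comp])
    obtain ⟨y, hy⟩ := mapp_top_surjective b' hK hC (adequate_toMVF _ hK h₁ b') hker (res C.X₃ ε.hom x)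
    refine ⟨res C.X₂ ε.inv y, ?_⟩
    rw [← res_mapp, hy, ← res_comp, ε.inv_hom_id, res_id]

end AdeqModLib
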