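import Groth.Agent.AdeqLib.Extension
import Groth.Agent.AdeqLib.Category
import Mathlib.Algebra.Homology.HomologySequence
import Mathlib.Algebra.Homology.Additive

/-!
Five-term exact sequences of adequate functors.
-/

set_option autoImplicit false
universe u

open CategoryTheory CategoryTheory.Limits
open AdeqLib

noncomputable section

namespace AdeqModLib

variable {A : Type u} [CommRing A]

/-- The middle term of a five-term exact sequence with four adequate terms is adequate. -/
theorem adequate_middle {X₁ X₂ X₃ X₄ X₅ : Adeq.MVF A} {a : X₁ ⟶ X₂} {b : X₂ ⟶ X₃} {c : X₃ ⟶ X₄} {d : X₄ ⟶ X₅}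
    (wab : a ≫ b = 0) (wbc : b ≫ c = 0) (wcd : c ≫ d = 0) (eab : (ShortComplex.mk a b wab).Exact)
    (ebc : (ShortComplex.mk b c wbc).Exact) (ecd : (ShortComplex.mk c d wcd).Exact)
    (h₁ : Adeq.adequate A X₁) (h₂ : Adeq.adequate A X₂) (h₄ : Adeq.adequate A X₄) (h₅ : Adeq.adequate A X₅) :
    Adeq.adequate A X₃ := by
  let i : cokernel a ⟶ X₃ := cokernel.desc a b wab
  let p : X₃ ⟶ kernel d := kernel.lift d c wcd
  have hi : Mono i := eab.mono_cokernelDesc
  have hp : Epi p := ecd.epi_kernelLift
  have w : i ≫ p = 0 := by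
    rw [← cancel_epi (cokernel.π a), ← cancel_mono (kernel.ι d)]
    simp [i, p, wbc]
  refine adequate_of_shortExact (S := ShortComplex.mk i p w) { exact := ?_ } (adequate_cokernel a h₁ h₂)
    (adequate_kernel d h₄ h₅)
  refine (exact_iff _).2 fun B x hx => ?_
  have hc : ap c B x = 0 := by
    rw [show c = p ≫ kernel.ι d from (kernel.lift_ι _ _ _).symm, ap_comp]
    exact (congrArg (ap (kernel.ι d) B) hx).trans (map_zero _)
  obtain ⟨y, hy⟩ := (exact_iff _).1 ebc B x hc
  refine ⟨ap (cokernel.π a) B y, ?_⟩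
  rw [← hy]
  exact congrArg (fun k => ap k B y) (cokernel.π_desc a b wab)

end AdeqModLib
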