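import Mathlib.CategoryTheory.Sites.Over
import Mathlib.CategoryTheory.Sites.Canonical

/-!
A presheaf on an over category as a presheaf on the category.
-/

set_option autoImplicit false
universe w v u

open CategoryTheory Opposite

noncomputable section

namespace AdeqModLib

variable {C : Type u} [Category.{v} C] {S : C} (F : (Over S)ᵒᵖ ⥤ Type w)

variable (S) in
/-- The total sections. -/
abbrev SigmaObj (T : C) : Type (max v w) := Σ a : T ⟶ S, F.obj (op (Over.mk a))

theorem sigma_mk_inj {T : C} {a : T ⟶ S} {t t' : F.obj (op (Over.mk a))}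
    (h : (⟨a, t⟩ : SigmaObj S F T) = ⟨a, t'⟩) : t = t' :=
  eq_of_heq (Sigma.mk.inj h).2

theorem mk_eq {T : C} {a b : T ⟶ S} (q : Over.mk b ⟶ Over.mk a) (hq : q.left = 𝟙 T) (t : F.obj (op (Over.mk a))) :
    (⟨b, F.map q.op t⟩ : SigmaObj S F T) = ⟨a, t⟩ := by
  have h : b = a := by
    have := Over.w q
    rw [hq] at this
    exact this.symm.trans (Category.id_comp a)
  subst h
  rw [show q = 𝟙 _ from Over.OverMorphism.ext hq, op_id, F.map_id]
  rfl

theorem fmap_comp {U V W : Over S} (r₁ : W ⟶ V) (r₂ : V ⟶ U) (t : F.obj (op U)) :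
    F.map r₁.op (F.map r₂.op t) = F.map (r₁ ≫ r₂).op t :=
  (F.map_comp_apply r₂.op r₁.op t).symm

/-- The presheaf of total sections. -/
def sigmaPsh : Cᵒᵖ ⥤ Type (max v w) where
  obj T := SigmaObj S F T.unop
  map g := TypeCat.ofHom fun z => ⟨g.unop ≫ z.1, F.map (Over.homMk g.unop : Over.mk (g.unop ≫ z.1) ⟶ Over.mk z.1).op z.2⟩
  map_id T := by
    refine ConcreteCategory.hom_ext _ _ fun z => ?_
    exact mk_eq F (Over.homMk (𝟙 T.unop) : Over.mk (𝟙 T.unop ≫ z.1) ⟶ Over.mk z.1) rfl z.2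
  map_comp {T T' T''} g h := by
    refine ConcreteCategory.hom_ext _ _ fun z => ?_
    let q : Over.mk ((g ≫ h).unop ≫ z.1) ⟶ Over.mk (h.unop ≫ g.unop ≫ z.1) :=
      Over.homMk (𝟙 _) ((Category.id_comp _).trans (Category.assoc _ _ _).symm)
    refine Eq.trans ?_ (mk_eq F q rfl _)
    refine congrArg (Sigma.mk _) ?_
    refine Eq.trans ?_ (congrArg (fun y => F.map q.op y) (fmap_comp F (Over.homMk h.unop : Over.mk (h.unop ≫ g.unop ≫ z.1) ⟶ Over.mk (g.unop ≫ z.1))
        (Over.homMk g.unop : Over.mk (g.unop ≫ z.1) ⟶ Over.mk z.1) z.2)).symm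
    refine Eq.trans ?_ (fmap_comp F q _ z.2).symm
    refine congrArg (fun r : _ ⟶ Over.mk z.1 => F.map r.op z.2) (Over.OverMorphism.ext ?_)
    exact (Category.id_comp _).symm

theorem map_mk {T T' : C} {a : T ⟶ S} {b : T' ⟶ S} (q : Over.mk b ⟶ Over.mk a) (t : F.obj (op (Over.mk a))) :
    (sigmaPsh F).map (X := op T) (Y := op T') q.left.op ⟨a, t⟩ = ⟨b, F.map q.op t⟩ := by
  let i : Over.mk b ⟶ Over.mk (q.left ≫ a) := Over.homMk (𝟙 T') ((Category.id_comp _).trans (Over.w q))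
  refine (mk_eq F i rfl _).symm.trans (congrArg (Sigma.mk _) ?_)
  rw [fmap_comp]
  exact congrArg (fun r : _ ⟶ Over.mk a => F.map r.op t) (Over.OverMorphism.ext (Category.id_comp _))

variable {F}

theorem isSheafFor_of_sigma {X : Over S} (R : Sieve X)
    (hy : Presieve.IsSeparatedFor (yoneda.obj S) (Sieve.overEquiv X R).arrows)
    (h : Presieve.IsSheafFor (sigmaPsh F) (Sieve.overEquiv X R).arrows) : Presieve.IsSheafFor F R.arrows := by
  intro x hx
  have hmem : ∀ {Z : C} {g : Z ⟶ X.left}, Sieve.overEquiv X R g → R (Over.homMk g : Over.mk (g ≫ X.hom) ⟶ X) :=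
    fun {Z g} hg => by
      have e := Sieve.overEquiv_symm_iff (Sieve.overEquiv X R) (Over.homMk g : Over.mk (g ≫ X.hom) ⟶ X)
      rw [show (Sieve.overEquiv X).symm (Sieve.overEquiv X R) = R from (Sieve.overEquiv X).left_inv R] at e
      exact e.2 hg
  let x' : Presieve.FamilyOfElements (sigmaPsh F) (Sieve.overEquiv X R).arrows :=
    fun Z g hg => ⟨g ≫ X.hom, x _ (hmem hg)⟩
  have hx' : x'.Compatible := by
    rw [Presieve.compatible_iff_sieveCompatible]
    intro Z Z' g r hg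
    refine Eq.symm ((map_mk F (Over.homMk r (Category.assoc _ _ _).symm :
      Over.mk ((r ≫ g) ≫ X.hom) ⟶ Over.mk (g ≫ X.hom)) _).trans (congrArg (Sigma.mk _) ?_))
    refine ((Presieve.compatible_iff_sieveCompatible x).1 hx _ _ _).symm.trans ?_
    congr 1
  obtain ⟨⟨a, t⟩, hat, huniq⟩ := h x' hx'
  obtain rfl : a = X.hom := hy.ext fun Z g hg => congrArg Sigma.fst (hat g hg)
  have key : ∀ {W : Over S} (q : W ⟶ X) (hq : R q) (s : F.obj (op X)),
      (sigmaPsh F).map (X := op X.left) q.left.op ⟨X.hom, s⟩ = (⟨W.hom, F.map q.op s⟩ : SigmaObj S F W.left) :=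
    fun {W} q hq s => map_mk F (a := X.hom) (b := W.hom) q s
  have key' : ∀ {W : Over S} (q : W ⟶ X) (hq : R q) (hq' : Sieve.overEquiv X R q.left),
      x' q.left hq' = (⟨W.hom, x q hq⟩ : SigmaObj S F W.left) := fun {W} q hq hq' => by
    let i : Over.mk W.hom ⟶ Over.mk (q.left ≫ X.hom) :=
      Over.homMk (𝟙 W.left) ((Category.id_comp _).trans (Over.w q))
    refine (mk_eq F i rfl _).symm.trans (congrArg (Sigma.mk _) ?_)
    refine ((Presieve.compatible_iff_sieveCompatible x).1 hx _ _ _).symm.trans ?_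
    congr 1
    exact Over.OverMorphism.ext (Category.id_comp _)
  have hto : ∀ {W : Over S} (q : W ⟶ X), R q → Sieve.overEquiv X R q.left := fun {W} q hq => by
    have e := Sieve.overEquiv_symm_iff (Sieve.overEquiv X R) q
    rw [show (Sieve.overEquiv X).symm (Sieve.overEquiv X R) = R from (Sieve.overEquiv X).left_inv R] at e
    exact e.1 hq
  refine ⟨t, fun W q hq => sigma_mk_inj F ?_, fun t' ht' => sigma_mk_inj F (huniq ⟨X.hom, t'⟩ fun Z g hg => ?_)⟩
  · exact (key q hq t).symm.trans ((hat _ (hto q hq)).trans (key' q hq (hto q hq)))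
  · exact (key _ (hmem hg) t').trans (congrArg (Sigma.mk _) (ht' _ (hmem hg)))

theorem isSheafFor_sigma {T : C} (R : Sieve T) (hy : Presieve.IsSheafFor (yoneda.obj S) R.arrows)
    (h : ∀ a : T ⟶ S, Presieve.IsSheafFor F ((Sieve.overEquiv (Over.mk a)).symm R).arrows) :
    Presieve.IsSheafFor (sigmaPsh F) R.arrows := by
  intro x hx
  let a₀ : Presieve.FamilyOfElements (yoneda.obj S) R.arrows := fun Z g hg => (x g hg).1
  have ha₀ : a₀.Compatible := fun Z₁ Z₂ W g₁ g₂ f₁ f₂ h₁ h₂ e => congrArg Sigma.fst (hx g₁ g₂ h₁ h₂ e)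
  obtain ⟨a, ha, haun⟩ := hy a₀ ha₀
  let R' := (Sieve.overEquiv (Over.mk a)).symm R
  have hR' : ∀ {W : Over S} (q : W ⟶ Over.mk a), R' q → R q.left := fun q hq =>
    (Sieve.overEquiv_symm_iff R q).1 hq
  have hv : ∀ {W : Over S} (q : W ⟶ Over.mk a) (hq : R' q),
      ∃ t : F.obj (op W), x q.left (hR' q hq) = (⟨W.hom, t⟩ : SigmaObj S F W.left) := fun {W} q hq => by
    have e : (x q.left (hR' q hq)).1 = W.hom := (ha _ (hR' q hq)).symm.trans (Over.w q)
    revert e
    generalize x q.left (hR' q hq) = z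
    obtain ⟨a', t'⟩ := z
    rintro rfl
    exact ⟨t', rfl⟩
  choose v hv using @hv
  let xv : Presieve.FamilyOfElements F R'.arrows := fun W q hq => v q hq
  obtain ⟨t, ht, htun⟩ := h a xv (by
    refine (Presieve.compatible_iff_sieveCompatible xv).2 fun {W W'} q r hq => ?_
    refine sigma_mk_inj F ((hv (r ≫ q) _).symm.trans (Eq.trans ?_ (map_mk F (a := W.hom) (b := W'.hom) r _)))
    rw [← hv q hq]
    exact (Presieve.compatible_iff_sieveCompatible x).1 hx _ _ _)
  have hg' : ∀ {Z : C} (g : Z ⟶ T), R g → R' (Over.homMk g : Over.mk (g ≫ a) ⟶ Over.mk a) := fun g hg =>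
    show (Sieve.overEquiv (Over.mk a)).symm R _ from (Sieve.overEquiv_symm_iff R (Over.homMk g : Over.mk (g ≫ a) ⟶ Over.mk a)).2 hg
  refine ⟨⟨a, t⟩, fun Z g hg => ?_, ?_⟩
  · exact (map_mk F (Over.homMk g : Over.mk (g ≫ a) ⟶ Over.mk a) t).trans
      ((congrArg (fun y => (⟨g ≫ a, y⟩ : SigmaObj S F Z)) (ht _ (hg' g hg))).trans (hv _ (hg' g hg)).symm)
  · rintro ⟨a', t'⟩ h'
    obtain rfl : a' = a := haun a' fun Z g hg => congrArg Sigma.fst (h' g hg)
    refine congrArg (Sigma.mk _) (htun t' fun W q hq => sigma_mk_inj F ?_)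
    exact ((map_mk F (b := W.hom) q t').symm.trans (h' _ (hR' q hq))).trans (hv q hq)

theorem isSheaf_over_of_sigma (J : GrothendieckTopology C) (hy : Presieve.IsSheaf J (yoneda.obj S))
    (h : Presieve.IsSheaf J (sigmaPsh F)) : Presieve.IsSheaf (J.over S) F := fun X R hR =>
  isSheafFor_of_sigma R (hy _ ((GrothendieckTopology.mem_over_iff _ _).1 hR)).isSeparatedFor
    (h _ ((GrothendieckTopology.mem_over_iff _ _).1 hR))

theorem isSheaf_sigma (J : GrothendieckTopology C) (hy : Presieve.IsSheaf J (yoneda.obj S))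
    (h : Presieve.IsSheaf (J.over S) F) : Presieve.IsSheaf J (sigmaPsh F) := fun T R hR =>
  isSheafFor_sigma R (hy R hR) fun a => h _ (GrothendieckTopology.overEquiv_symm_mem_over _ _ _ hR)

end AdeqModLib
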