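import Groth.Agent.AdeqModLib.Adequate
import Groth.Agent.AdeqModLib.SigmaPsh
import Groth.Agent.AdeqLib.Amitsur
import Mathlib.AlgebraicGeometry.Sites.Fpqc
import Mathlib.RingTheory.RingHom.FaithfullyFlat

/-!
Adequate modules are sheaves for the fpqc topology.
-/

set_option autoImplicit false
set_option maxHeartbeats 1600000
set_option backward.isDefEq.respectTransparency false
set_option backward.isDefEq.respectTransparency.types false
universe u

open CategoryTheory CategoryTheory.Limits AlgebraicGeometry Opposite TensorProduct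
open AdeqLib

noncomputable section

namespace AdeqModLib

variable {K : Precoverage Scheme.{u}} [BigSite.OSh K] {S : Scheme.{u}}

theorem over_mono {J J' : GrothendieckTopology Scheme.{u}} (h : J ≤ J') : J.over S ≤ J'.over S := fun _ _ hR =>
  (GrothendieckTopology.mem_over_iff _ _).2 (h _ ((GrothendieckTopology.mem_over_iff _ _).1 hR))

/-- Adequate modules satisfy the sheaf condition for the fpqc topology. -/
theorem isSheaf_fpqc (hK : Good K) (hle : Scheme.zariskiTopology.{u} ≤ K.toGrothendieck) (M : BigSite.Mod K S)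
    (hM : Adeq.adequateMod K S M) :
    Presheaf.IsSheaf (QuotSh.J Scheme.fpqcPrecoverage S) ((BigSite.toAbMod K S).obj M).obj := by
  rw [Presheaf.isSheaf_iff_isSheaf_forget _ _ (forget AddCommGrpCat.{u + 1}), isSheaf_iff_isSheaf_of_type]
  let F : (Over S)ᵒᵖ ⥤ Type (u + 1) := M.val.presheaf ⋙ forget AddCommGrpCat.{u + 1}
  change Presieve.IsSheaf (Scheme.fpqcTopology.over S) F
  refine isSheaf_over_of_sigma _ (GrothendieckTopology.Subcanonical.isSheaf_of_isRepresentable _) ?_
  refine (isSheaf_type_propQCTopology_iff (P := @Flat) _).2 ?_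
  refine ⟨isSheaf_sigma _ (GrothendieckTopology.Subcanonical.isSheaf_of_isRepresentable _)
    (Presieve.isSheaf_of_le _ (over_mono hle) ((isSheaf_iff_isSheaf_of_type _ _).1
      ((Presheaf.isSheaf_iff_isSheaf_forget _ _ (forget AddCommGrpCat.{u + 1})).1 M.isSheaf))), ?_⟩
  intro A B f hf hs
  have : Flat (Spec.map f) := hf
  letI : Algebra A B := f.hom.toAlgebra
  have hff : f.hom.FaithfullyFlat := RingHom.FaithfullyFlat.iff_flat_and_comap_surjective.2
    ⟨(HasRingHomProperty.Spec_iff (P := @Flat)).1 hf, fun p => hs.surj p⟩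
  have : Module.FaithfullyFlat A B := hff
  have hcov : Presieve.IsSheafFor (yoneda.obj S) (Presieve.singleton (Spec.map f)) :=
    ((isSheaf_type_propQCTopology_iff (P := @Flat) _).1
      (GrothendieckTopology.Subcanonical.isSheaf_of_isRepresentable (J := Scheme.fpqcTopology.{u}) _)).2 f hf hs
  rw [Presieve.isSheafFor_singleton] at hcov ⊢
  rintro ⟨a', t⟩ hcompat
  obtain ⟨a, ha, haun⟩ := hcov a' fun p₁ p₂ h => congrArg Sigma.fst (hcompat p₁ p₂ h)
  obtain rfl : Spec.map f ≫ a = a' := ha
  obtain ⟨hinj, hglue⟩ := adequate_ff_descent (B : Type u) (adequate_toMVF M hK hM a)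
  let t₀ : BigSite.sectMod K M (so a (Adeq.algOf A B)) := t
  have h12 : res M (sm a (inl₂ (B : Type u))) t₀ = res M (sm a (inr₂ (B : Type u))) t₀ := by
    refine sigma_mk_inj F ?_
    refine (map_mk F (a := Spec.map f ≫ a) (sm a (inl₂ (B : Type u))) t).symm.trans
      (Eq.trans ?_ (map_mk F (a := Spec.map f ≫ a) (sm a (inr₂ (B : Type u))) t))
    refine hcompat _ _ ?_
    change Spec.map _ ≫ Spec.map _ = Spec.map _ ≫ Spec.map _
    rw [← Spec.map_comp, ← Spec.map_comp]
    congr 1
    ext r
    exact (Algebra.TensorProduct.includeLeft : B →ₐ[A] B ⊗[A] B).commutes r |>.trans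
      ((Algebra.TensorProduct.includeRight : B →ₐ[A] B ⊗[A] B).commutes r).symm
  obtain ⟨x, hx⟩ := hglue t₀ h12
  let aA : Spec A ⟶ S := Spec.map (CommRingCat.ofHom (algebraMap A A)) ≫ a
  have haA : aA = a := by
    change Spec.map (𝟙 A) ≫ a = a
    rw [Spec.map_id, Category.id_comp]
  refine ⟨⟨aA, x⟩, ?_, ?_⟩
  · exact (map_mk F (a := aA) (b := Spec.map f ≫ a) (sm a (unitHom (B : Type u))) x).trans
      (congrArg (Sigma.mk _) hx)
  · rintro ⟨b, t'⟩ hb
    obtain rfl : a = b := (haun b (congrArg Sigma.fst hb)).symm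
    let i : Over.mk aA ⟶ Over.mk a := Over.homMk (𝟙 _) ((Category.id_comp _).trans haA.symm)
    refine (mk_eq F i rfl t').symm.trans (congrArg (Sigma.mk _) (hinj ?_))
    refine Eq.trans ?_ hx.symm
    refine sigma_mk_inj F (Eq.trans ?_ hb)
    refine (map_mk F (a := aA) (b := Spec.map f ≫ a) (sm a (unitHom (B : Type u))) _).symm.trans ?_
    exact congrArg ((sigmaPsh F).map _) (mk_eq F i rfl t')

end AdeqModLib
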