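import Groth.Agent.AdeqModLib.InjMod
import Groth.Agent.BigCohLib.Vanish
import Mathlib.CategoryTheory.Abelian.Injective.Resolution

/-!
Injective resolutions of adequate modules are exact on affine objects.
-/

set_option autoImplicit false
set_option maxHeartbeats 1600000
universe u

open CategoryTheory CategoryTheory.Limits AlgebraicGeometry Opposite
open AdeqLib BigCohLib

noncomputable section

namespace AdeqModLib

variable {S : Scheme.{u}} {M : BigSite.Mod Scheme.fppfPrecoverage.{u} S} (I : InjectiveResolution M)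

/-- The cocycles of a resolution. -/
abbrev zc (n : ℕ) : BigSite.Mod Scheme.fppfPrecoverage S := kernel (I.cocomplex.d n (n + 1))

/-- The map onto the next cocycles. -/
abbrev toZc (n : ℕ) : I.cocomplex.X n ⟶ zc I (n + 1) :=
  kernel.lift _ (I.cocomplex.d n (n + 1)) (I.cocomplex.d_comp_d _ _ _)

theorem epi_toZc (n : ℕ) : Epi (toZc I n) :=
  (ShortComplex.exact_iff_epi_kernel_lift _).1 (I.exact_succ n)

/-- The short complex of cocycles. -/
abbrev zcSeq (n : ℕ) : ShortComplex (BigSite.Mod Scheme.fppfPrecoverage S) :=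
  ShortComplex.mk (kernel.ι (I.cocomplex.d n (n + 1))) (toZc I n) (by
    rw [← cancel_mono (kernel.ι (I.cocomplex.d (n + 1) (n + 1 + 1))), Category.assoc, kernel.lift_ι,
      kernel.condition, zero_comp])

theorem mapp_zcSeq_exact (n : ℕ) (U : Over S) (x : BigSite.sectMod _ (I.cocomplex.X n) U)
    (hx : mapp (toZc I n) U x = 0) : ∃ y, mapp (kernel.ι (I.cocomplex.d n (n + 1))) U y = x := by
  have hd : mapp (I.cocomplex.d n (n + 1)) U x = 0 := by
    rw [← kernel.lift_ι (I.cocomplex.d (n + 1) (n + 1 + 1)) (I.cocomplex.d n (n + 1)) (I.cocomplex.d_comp_d _ _ _)]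
    change mapp (kernel.ι _) U (mapp (toZc I n) U x) = 0
    rw [hx, map_zero]
  let C := ShortComplex.mk (kernel.ι (I.cocomplex.d n (n + 1))) _ (kernel.condition _)
  have hex := ((ShortComplex.exact_kernel (I.cocomplex.d n (n + 1))).map_of_mono_of_preservesKernel
    (SheafOfModules.forget (BigSite.ORing Scheme.fppfPrecoverage S) ⋙ PresheafOfModules.evaluation _ (op U))
    inferInstance inferInstance)
  exact (ShortComplex.moduleCat_exact_iff _).1 hex x hd

theorem isLocallySurjective_toZc (n : ℕ) :
    Presheaf.IsLocallySurjective (QuotSh.J Scheme.fppfPrecoverage S)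
      ((PresheafOfModules.toPresheaf _).map (toZc I n).val) := by
  have := epi_toZc I n
  refine ⟨fun {U} x => ?_⟩
  obtain ⟨R, hR, hloc⟩ := exists_local_preimage_of_epi (toZc I n) x
  exact GrothendieckTopology.superset_covering _ (fun V g hg => hloc g hg) hR

theorem zc_surjective_aux (n : ℕ) (hC : Cob (zc I n).val.presheaf) (U : Over S) [IsAffine U.left] :
    Function.Surjective (mapp (toZc I n) U) := fun x => by
  have := isLocallySurjective_toZc I n
  exact affine_surjective ((PresheafOfModules.toPresheaf _).map (kernel.ι (I.cocomplex.d n (n + 1))).val)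
    ((PresheafOfModules.toPresheaf _).map (toZc I n).val) (I.cocomplex.X n).isSheaf (zc I (n + 1)).isSheaf
    (fun V => mapp_injective (kernel.ι (I.cocomplex.d n (n + 1))) V.unop)
    (fun V y hy => mapp_zcSeq_exact I n V.unop y hy)
    (((PresheafOfModules.toPresheaf _).map_comp _ _).symm.trans
      ((congrArg (fun k : zc I n ⟶ zc I (n + 1) => (PresheafOfModules.toPresheaf _).map k.val) (zcSeq I n).zero).trans
        (Functor.map_zero _ _ _)))
    hC U x

variable (hM : Adeq.adequateMod Scheme.fppfPrecoverage S M)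

include hM

theorem cob_zc (n : ℕ) : Cob (zc I n).val.presheaf := by
  induction n with
  | zero =>
    refine cob_of_adequate _ good_fppf ((Adeq.adequateMod Scheme.fppfPrecoverage S).prop_of_iso ?_ hM)
    exact I.isLimitKernelFork.conePointUniqueUpToIso (limit.isLimit _)
  | succ n ih =>
    exact @cob_quotient _ _ _ _ ((PresheafOfModules.toPresheaf _).map (kernel.ι (I.cocomplex.d n (n + 1))).val)
      ((PresheafOfModules.toPresheaf _).map (toZc I n).val) (I.cocomplex.X n).isSheaf (zc I (n + 1)).isSheaf
      (fun V => mapp_injective (kernel.ι (I.cocomplex.d n (n + 1))) V.unop)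
      (fun V y hy => mapp_zcSeq_exact I n V.unop y hy)
      (((PresheafOfModules.toPresheaf _).map_comp _ _).symm.trans
        ((congrArg (fun k : zc I n ⟶ zc I (n + 1) => (PresheafOfModules.toPresheaf _).map k.val) (zcSeq I n).zero).trans
          (Functor.map_zero _ _ _)))
      (isLocallySurjective_toZc I n) ih (cob_of_injective_mod (I.cocomplex.X n))

/-- Cocycles of positive degree on affine objects are coboundaries. -/
theorem exists_d_eq (n : ℕ) (U : Over S) [IsAffine U.left] (x : BigSite.sectMod _ (I.cocomplex.X (n + 1)) U)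
    (hx : mapp (I.cocomplex.d (n + 1) (n + 1 + 1)) U x = 0) :
    ∃ y, mapp (I.cocomplex.d n (n + 1)) U y = x := by
  have hex := ((ShortComplex.exact_kernel (I.cocomplex.d (n + 1) (n + 1 + 1))).map_of_mono_of_preservesKernel
    (SheafOfModules.forget (BigSite.ORing Scheme.fppfPrecoverage S) ⋙ PresheafOfModules.evaluation _ (op U))
    inferInstance inferInstance)
  obtain ⟨z, hz⟩ := (ShortComplex.moduleCat_exact_iff _).1 hex x hx
  obtain ⟨y, hy⟩ := zc_surjective_aux I n (cob_zc I hM n) U z
  refine ⟨y, ?_⟩
  rw [← kernel.lift_ι (I.cocomplex.d (n + 1) (n + 1 + 1)) (I.cocomplex.d n (n + 1)) (I.cocomplex.d_comp_d _ _ _)]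
  change mapp (kernel.ι _) U (mapp (toZc I n) U y) = x
  rw [hy]
  exact hz

end AdeqModLib
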