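import Groth.Agent.BigCohLib.Nerve
import Groth.Agent.AdeqModLib.Exact
import Mathlib.Algebra.Category.ModuleCat.Presheaf.Free
import Mathlib.CategoryTheory.Preadditive.Injective.Preserves

/-!
Injective modules on big sites: the coboundary condition and flasqueness.
-/

set_option autoImplicit false
set_option maxHeartbeats 1600000
universe u

open CategoryTheory CategoryTheory.Limits AlgebraicGeometry Opposite
open AdeqLib BigCohLib

noncomputable section

namespace AdeqModLib

variable {K : Precoverage Scheme.{u}} [BigSite.OSh K] {S : Scheme.{u}}

section presheaf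

variable (P : PresheafOfModules.{u + 1} (BigSite.ORing K S).obj)

/-- Sections of the structure sheaf act pointwise on cofree sections. -/
instance cofreeModule (U : (Over S)ᵒᵖ) :
    Module ((BigSite.ORing K S).obj.obj U) ((cofree P.presheaf).obj U) where
  smul r x := fun W h => (show P.obj (op W) from
    ((BigSite.ORing K S).obj.map h.op r) • (show P.obj (op W) from x W h))
  one_smul x := funext fun W => funext fun h => by
    change (BigSite.ORing K S).obj.map h.op 1 • (show P.obj (op W) from x W h) = _
    rw [map_one, one_smul]
  mul_smul r s x := funext fun W => funext fun h => by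
    change (BigSite.ORing K S).obj.map h.op (r * s) • (show P.obj (op W) from x W h) = _
    rw [map_mul, mul_smul]
    rfl
  smul_zero r := funext fun W => funext fun h => smul_zero (A := P.obj (op W)) _
  smul_add r x y := funext fun W => funext fun h => smul_add (A := P.obj (op W)) _ _ _
  add_smul r s x := funext fun W => funext fun h => by
    change (BigSite.ORing K S).obj.map h.op (r + s) • (show P.obj (op W) from x W h) = _
    rw [map_add, add_smul]
    rfl
  zero_smul x := funext fun W => funext fun h => by
    change (BigSite.ORing K S).obj.map h.op 0 • (show P.obj (op W) from x W h) = _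
    rw [map_zero, zero_smul]
    rfl

/-- The cofree presheaf as a presheaf of modules. -/
def cofreeM : PresheafOfModules.{u + 1} (BigSite.ORing K S).obj :=
  PresheafOfModules.ofPresheaf (cofree P.presheaf) (fun X Y g r x => funext fun W => funext fun h => by
    change (BigSite.ORing K S).obj.map ((h ≫ g.unop).op) r • (show P.obj (op W) from x W (h ≫ g.unop)) =
      (BigSite.ORing K S).obj.map h.op ((BigSite.ORing K S).obj.map g r) • (show P.obj (op W) from x W (h ≫ g.unop))
    rw [op_comp, Functor.map_comp]
    rfl)

/-- The embedding in the cofree presheaf of modules. -/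
def toCofreeM : P ⟶ cofreeM P :=
  PresheafOfModules.homMk (toCofree P.presheaf) (fun X r m => funext fun W => funext fun h =>
    P.map_smul h.op r m)

instance mono_toCofreeM : Mono (toCofreeM P) :=
  PresheafOfModules.mono_of_injective fun U x y h => by
    have := congrFun (congrFun h U.unop) (𝟙 _)
    exact ((ConcreteCategory.congr_hom (P.presheaf.map_id U) x).symm.trans this).trans
      (ConcreteCategory.congr_hom (P.presheaf.map_id U) y)

/-- Injective presheaves of modules satisfy the coboundary condition. -/
theorem cob_of_injective_pmod [Injective P] : Cob P.presheaf :=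
  Cob.retract ((PresheafOfModules.toPresheaf _).map (toCofreeM P))
    ((PresheafOfModules.toPresheaf _).map (Injective.factorThru (𝟙 P) (toCofreeM P)))
    (((PresheafOfModules.toPresheaf _).map_comp _ _).symm.trans
      ((congrArg _ (Injective.comp_factorThru (𝟙 P) (toCofreeM P))).trans
        ((PresheafOfModules.toPresheaf _).map_id P)))
    (cob_cofree P.presheaf)

theorem res_surjective_of_injective_pmod [Injective P] {U V : Over S} (g : V ⟶ U) [Mono g] :
    Function.Surjective (P.presheaf.map g.op) := fun y => by
  let R := (BigSite.ORing K S).obj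
  let yU : (Over S)ᵒᵖ ⥤ Type (u + 1) := uliftYoneda.{u + 1}.obj U
  let yV : (Over S)ᵒᵖ ⥤ Type (u + 1) := uliftYoneda.{u + 1}.obj V
  let φ : yV ⟶ yU := uliftYoneda.{u + 1}.map g
  have : Mono ((PresheafOfModules.free R).map φ) := PresheafOfModules.mono_of_injective fun W => by
    refine Finsupp.mapDomain_injective fun a b hab => ?_
    exact ULift.ext _ _ ((cancel_mono g).1 (congrArg ULift.down hab))
  let τ : (PresheafOfModules.free R).obj yV ⟶ P := PresheafOfModules.freeHomEquiv.symm (uliftYonedaEquiv.symm y)
  let σ := Injective.factorThru τ ((PresheafOfModules.free R).map φ)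
  refine ⟨uliftYonedaEquiv (PresheafOfModules.freeHomEquiv σ), ?_⟩
  have e0 := (PresheafOfModules.freeAdjunction R).homEquiv_naturality_left φ σ
  simp only [PresheafOfModules.freeAdjunction_homEquiv] at e0
  have e1 : uliftYonedaEquiv.symm y = φ ≫ PresheafOfModules.freeHomEquiv σ :=
    (((congrArg PresheafOfModules.freeHomEquiv (Injective.comp_factorThru τ
      ((PresheafOfModules.free R).map φ))).trans (Equiv.apply_symm_apply _ _)).symm).trans e0
  have e2 : y = (φ ≫ PresheafOfModules.freeHomEquiv σ).app (op V) (ULift.up (𝟙 V)) := by
    refine Eq.trans ?_ (congrArg (fun k : yV ⟶ _ => k.app (op V) (ULift.up (𝟙 V))) e1)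
    exact (ConcreteCategory.congr_hom (P.presheaf.map_id (op V)) y).symm
  refine Eq.trans ?_ e2.symm
  change P.presheaf.map g.op ((PresheafOfModules.freeHomEquiv σ).app (op U) (ULift.up (𝟙 U))) =
    (PresheafOfModules.freeHomEquiv σ).app (op V) (ULift.up (𝟙 V ≫ g))
  rw [Category.id_comp]
  let x₀ : yU.obj (op U) := ULift.up (𝟙 U)
  refine (NatTrans.naturality_apply (PresheafOfModules.freeHomEquiv σ) g.op x₀).symm.trans ?_
  exact congrArg (fun k => (PresheafOfModules.freeHomEquiv σ).app (op V) k)
    (ULift.ext _ _ (Category.comp_id g) : yU.map g.op x₀ = ULift.up g)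

end presheaf

instance injective_incl (J : BigSite.Mod K S) [Injective J] : Injective ((incl K S).obj J) :=
  Injective.injective_of_adjoint (PresheafOfModules.sheafificationAdjunction (𝟙 (BigSite.ORing K S).obj)) J

theorem cob_of_injective_mod (J : BigSite.Mod K S) [Injective J] : Cob J.val.presheaf :=
  cob_of_injective_pmod ((incl K S).obj J)

theorem res_surjective_of_injective (J : BigSite.Mod K S) [Injective J] {U V : Over S} (g : V ⟶ U) [Mono g] :
    Function.Surjective (res J g) :=
  res_surjective_of_injective_pmod ((incl K S).obj J) g

end AdeqModLib
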