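import Mathlib.AlgebraicGeometry.Morphisms.QuasiSeparated

/-!
Induction on quasi-compact opens of a quasi-separated scheme.
-/

set_option autoImplicit false
universe u

open CategoryTheory AlgebraicGeometry TopologicalSpace

namespace AdeqModLib

variable {X : Scheme.{u}} (P : X.Opens → Prop) (h₁ : ∀ U : X.Opens, IsAffineOpen U → P U)
  (h₂ : ∀ U V : X.Opens, P U → P V → P (U ⊓ V) → P (U ⊔ V))

include h₁ h₂

theorem induction_finset_basicOpen {V : X.Opens} (hV : IsAffineOpen V) (s : Finset Γ(X, V)) :
    ∀ g : Γ(X, V), P ((s.sup fun f => X.basicOpen f) ⊓ X.basicOpen g) := by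
  classical
  induction s using Finset.induction_on with
  | empty =>
    intro g
    rw [Finset.sup_empty, bot_inf_eq]
    exact h₁ _ (isAffineOpen_bot X)
  | insert f s _ ih =>
    intro g
    rw [Finset.sup_insert, inf_sup_right, ← X.basicOpen_mul f g]
    refine h₂ _ _ (h₁ _ (hV.basicOpen _)) (ih g) ?_
    have e : X.basicOpen (f * g) ⊓ ((s.sup fun f => X.basicOpen f) ⊓ X.basicOpen g) =
        (s.sup fun f => X.basicOpen f) ⊓ X.basicOpen (f * g) := by
      rw [X.basicOpen_mul]
      ac_rfl
    rw [e]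
    exact ih _

theorem induction_le_affine {V W : X.Opens} (hV : IsAffineOpen V) (hW : IsCompact (W : Set X)) (hWV : W ≤ V) :
    P W := by
  classical
  choose f hf hxf using fun x : (W : Set X) =>
    hV.exists_basicOpen_le (V := W) ⟨x.1, x.2⟩ (hWV x.2)
  obtain ⟨t, ht⟩ := hW.elim_finite_subcover (fun x : (W : Set X) => (X.basicOpen (f x) : Set X))
    (fun x => (X.basicOpen (f x)).2) (fun x hx => Set.mem_iUnion.2 ⟨⟨x, hx⟩, hxf ⟨x, hx⟩⟩)
  have hW' : ((t.image f).sup fun f => X.basicOpen f) ⊓ X.basicOpen (1 : Γ(X, V)) = W := by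
    rw [Finset.sup_image, X.basicOpen_of_isUnit isUnit_one]
    refine le_antisymm (inf_le_left.trans (Finset.sup_le fun x _ => hf x)) (le_inf ?_ hWV)
    intro x hx
    obtain ⟨y, hy, hxy⟩ := Set.mem_iUnion₂.1 (ht hx)
    exact (Finset.le_sup (f := fun x => X.basicOpen (f x)) hy) hxy
  exact hW' ▸ induction_finset_basicOpen P h₁ h₂ hV (t.image f) 1

/-- A property of affine opens stable under unions with the property on the intersection holds for quasi-compact
opens. -/
theorem induction_qcqs [QuasiSeparatedSpace X] (W : X.Opens) (hW : IsCompact (W : Set X)) : P W := by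
  refine compact_open_induction_on W hW (h₁ _ (isAffineOpen_bot X)) fun S hS U hP => ?_
  refine h₂ _ _ hP (h₁ _ U.2) (induction_le_affine P h₁ h₂ U.2 ?_ inf_le_right)
  exact QuasiSeparatedSpace.inter_isCompact _ _ S.2 hS U.1.2 U.2.isCompact

end AdeqModLib
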