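import Groth.Agent.AdeqModLib.Descent
import Groth.Agent.AdeqLib.Category

/-!
Kernels, cokernels and colimits of adequate modules.
-/

set_option autoImplicit false
set_option maxHeartbeats 800000
universe u w

open CategoryTheory CategoryTheory.Limits AlgebraicGeometry Opposite
open AdeqLib

noncomputable section

namespace AdeqModLib

variable {K : Precoverage Scheme.{u}} [BigSite.OSh K] {S : Scheme.{u}}

section preserves

variable {A : CommRingCat.{u}} (b : Spec A ⟶ S)

theorem toMVFPre_toPresheaf : Adeq.toMVFPre K b ⋙ PresheafOfModules.toPresheaf.{u + 1} (Adeq.ringOf A) =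
    PresheafOfModules.toPresheaf (BigSite.ORing K S).obj ⋙
      (Functor.whiskeringLeft _ _ _).obj (Adeq.specOver b).op := rfl

instance toMVFPre_preservesColimits (J : Type w) [Category.{w} J] [HasColimitsOfShape J AddCommGrpCat.{u + 1}]
    [HasColimitsOfShape J (Adeq.MVF A)]
    [PreservesColimitsOfShape J (PresheafOfModules.toPresheaf.{u + 1} (Adeq.ringOf A))]
    [PreservesColimitsOfShape J (PresheafOfModules.toPresheaf.{u + 1} (BigSite.ORing K S).obj)] :
    PreservesColimitsOfShape J (Adeq.toMVFPre K b) := by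
  have : ReflectsColimitsOfShape J (PresheafOfModules.toPresheaf.{u + 1} (Adeq.ringOf A)) :=
    reflectsColimitsOfShape_of_reflectsIsomorphisms
  have : PreservesColimitsOfShape J (Adeq.toMVFPre K b ⋙ PresheafOfModules.toPresheaf.{u + 1} (Adeq.ringOf A)) :=
    inferInstanceAs (PreservesColimitsOfShape J (PresheafOfModules.toPresheaf (BigSite.ORing K S).obj ⋙
      (Functor.whiskeringLeft _ _ _).obj (Adeq.specOver b).op))
  exact preservesColimitsOfShape_of_reflects_of_preserves (Adeq.toMVFPre K b)
    (PresheafOfModules.toPresheaf.{u + 1} (Adeq.ringOf A))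

instance toMVFPre_preservesFiniteLimits : PreservesFiniteLimits (Adeq.toMVFPre K b) := ⟨fun J _ _ => by
  have : ReflectsLimitsOfShape J (PresheafOfModules.toPresheaf.{u + 1} (Adeq.ringOf A)) :=
    reflectsLimitsOfShape_of_reflectsIsomorphisms
  have : PreservesLimitsOfShape J (Adeq.toMVFPre K b ⋙ PresheafOfModules.toPresheaf.{u + 1} (Adeq.ringOf A)) :=
    inferInstanceAs (PreservesLimitsOfShape J (PresheafOfModules.toPresheaf (BigSite.ORing K S).obj ⋙
      (Functor.whiskeringLeft _ _ _).obj (Adeq.specOver b).op))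
  exact preservesLimitsOfShape_of_reflects_of_preserves (Adeq.toMVFPre K b)
    (PresheafOfModules.toPresheaf.{u + 1} (Adeq.ringOf A))⟩

instance toMVF_preservesFiniteLimits : PreservesFiniteLimits (Adeq.toMVF K b) := by
  unfold Adeq.toMVF
  infer_instance

end preserves

theorem adequateMod_kernel (hK : Good K) {M N : BigSite.Mod K S} (φ : M ⟶ N)
    (hM : Adeq.adequateMod K S M) (hN : Adeq.adequateMod K S N) : Adeq.adequateMod K S (kernel φ) :=
  (adequateMod_iff _ hK).2 fun A b => (Adeq.adequate A).prop_of_iso (PreservesKernel.iso (Adeq.toMVF K b) φ).symm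
    (adequate_kernel _ (adequate_toMVF M hK hM b) (adequate_toMVF N hK hN b))

/-- The inclusion of sheaves into presheaves of modules. -/
abbrev incl (K : Precoverage Scheme.{u}) [BigSite.OSh K] (S : Scheme.{u}) :
    BigSite.Mod K S ⥤ PresheafOfModules.{u + 1} (BigSite.ORing K S).obj :=
  SheafOfModules.forget _ ⋙ PresheafOfModules.restrictScalars (𝟙 (BigSite.ORing K S).obj)

/-- The counit. -/
abbrev counit (K : Precoverage Scheme.{u}) [BigSite.OSh K] (S : Scheme.{u}) :
    incl K S ⋙ PresheafOfModules.sheafification (𝟙 (BigSite.ORing K S).obj) ≅ 𝟭 (BigSite.Mod K S) :=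
  asIso (PresheafOfModules.sheafificationAdjunction (𝟙 (BigSite.ORing K S).obj)).counit

theorem adequateMod_colimit (hK : Good K) {J : Type (u + 1)} [SmallCategory J] (D : J ⥤ BigSite.Mod K S)
    (hD : ∀ j, Adeq.adequateMod K S (D.obj j)) : Adeq.adequateMod K S (colimit D) := by
  have hP : ∀ (A : CommRingCat.{u}) (b : Spec A ⟶ S),
      Adeq.adequate A ((Adeq.toMVFPre K b).obj (colimit (D ⋙ incl K S))) := fun A b =>
    (Adeq.adequate A).prop_of_iso (preservesColimitIso (Adeq.toMVFPre K b) (D ⋙ incl K S)).symm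
      (adequate_colimit _ fun j => adequate_toMVF (D.obj j) hK (hD j) b)
  refine (Adeq.adequateMod K S).prop_of_iso ?_ (adequate_sheafification _ hP hK)
  exact preservesColimitIso (PresheafOfModules.sheafification (𝟙 (BigSite.ORing K S).obj)) (D ⋙ incl K S) ≪≫
    HasColimit.isoOfNatIso (Functor.associator _ _ _ ≪≫ Functor.isoWhiskerLeft D (counit K S) ≪≫ D.rightUnitor)

theorem adequateMod_cokernel (hK : Good K) {M N : BigSite.Mod K S} (φ : M ⟶ N)
    (hM : Adeq.adequateMod K S M) (hN : Adeq.adequateMod K S N) : Adeq.adequateMod K S (cokernel φ) := by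
  have hP : ∀ (A : CommRingCat.{u}) (b : Spec A ⟶ S),
      Adeq.adequate A ((Adeq.toMVFPre K b).obj (cokernel ((incl K S).map φ))) := fun A b =>
    (Adeq.adequate A).prop_of_iso (PreservesCokernel.iso (Adeq.toMVFPre K b) ((incl K S).map φ)).symm
      (adequate_cokernel _ (adequate_toMVF M hK hM b) (adequate_toMVF N hK hN b))
  refine (Adeq.adequateMod K S).prop_of_iso ?_ (adequate_sheafification _ hP hK)
  exact PreservesCokernel.iso (PresheafOfModules.sheafification (𝟙 (BigSite.ORing K S).obj)) ((incl K S).map φ) ≪≫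
    cokernel.mapIso _ _ ((counit K S).app M) ((counit K S).app N) ((counit K S).hom.naturality φ)

end AdeqModLib
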