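import Groth.Agent.AdeqModLib.Exact
import Groth.Agent.AdeqLib.Flat

/-!
Parasitic modules.
-/

set_option autoImplicit false
set_option maxHeartbeats 800000
universe u

open CategoryTheory CategoryTheory.Limits AlgebraicGeometry Opposite TensorProduct
open AdeqLib

noncomputable section

namespace AdeqModLib

variable {S : Scheme.{u}}

/-- Covering sieves contain covering families with flat members. -/
theorem exists_flat_family {U : Over S} {R : Sieve U} (hR : R ∈ QuotSh.J Scheme.fppfPrecoverage.{u} S U) :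
    ∃ (ι : Type u) (Yf : ι → Over S) (g : ∀ i, Yf i ⟶ U),
      Sieve.ofArrows Yf g ∈ QuotSh.J Scheme.fppfPrecoverage S U ∧ ∀ i, R (g i) ∧ Flat (g i).left := by
  obtain ⟨ι, Yf, g, hg, hgR⟩ := good_fppf.mem ((GrothendieckTopology.mem_over_iff _ _).1 hR)
  let Zf : ι → Over S := fun i => Over.mk (g i ≫ U.hom)
  let h : ∀ i, Zf i ⟶ U := fun i => Over.homMk (g i)
  refine ⟨ι, Zf, h, ofArrows_mem h hg, fun i => ⟨?_, ((Scheme.ofArrows_mem_precoverage_iff _).1 hg).2 i |>.1⟩⟩
  have e := Sieve.overEquiv_symm_iff (Sieve.overEquiv U R) (h i)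
  rw [show (Sieve.overEquiv U).symm (Sieve.overEquiv U R) = R from (Sieve.overEquiv U).left_inv R] at e
  exact e.2 (hgR i)

theorem parasitic_of_exact (C : ShortComplex (BigSite.Mod Scheme.fppfPrecoverage.{u} S)) (hC : C.Exact)
    (p₁ : Adeq.parasitic Scheme.fppfPrecoverage S C.X₁) (p₃ : Adeq.parasitic Scheme.fppfPrecoverage S C.X₃) :
    Adeq.parasitic Scheme.fppfPrecoverage S C.X₂ := fun U hU => by
  refine subsingleton_of_forall_eq 0 fun x => ?_
  obtain ⟨R, hR, hloc⟩ := exists_local_preimage_of_exact hC x ((p₃ U hU).elim _ _)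
  obtain ⟨ι, Yf, g, hmem, hgR⟩ := exists_flat_family hR
  refine eq_zero_of_res C.X₂ g hmem x fun i => ?_
  have : Flat (Yf i).hom := by
    rw [← Over.w (g i)]
    have := (hgR i).2
    infer_instance
  obtain ⟨y, hy⟩ := hloc (g i) (hgR i).1
  rw [← hy, (p₁ (Yf i) this).elim y 0, map_zero]

end AdeqModLib

namespace AdeqModLib

variable {S : Scheme.{u}}

/-- Vanishing on the members of an affine open covering gives vanishing on all flat objects. -/
theorem parasitic_of_affine_cover (M : BigSite.Mod Scheme.fppfPrecoverage.{u} S)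
    (hM : Adeq.adequateMod Scheme.fppfPrecoverage S M) {ι : Type u} (W : ι → S.Opens) (hW : ∀ i, IsAffineOpen (W i))
    (hcov : (⨆ i, W i) = ⊤)
    (h0 : ∀ i, Subsingleton (BigSite.sectMod Scheme.fppfPrecoverage M ((BigSite.zarIncl S).obj (W i)))) :
    Adeq.parasitic Scheme.fppfPrecoverage S M := fun U hU => by
  have key : ∀ x : U.left, ∃ (i : ι) (V : U.left.Opens), IsAffineOpen V ∧ x ∈ V ∧ V ≤ U.hom ⁻¹ᵁ W i := fun x => by
    obtain ⟨i, hi⟩ := TopologicalSpace.Opens.mem_iSup.1 (show U.hom x ∈ ⨆ i, W i by rw [hcov]; trivial)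
    obtain ⟨V, hV, hxV, hVU⟩ := TopologicalSpace.Opens.isBasis_iff_nbhd.mp U.left.isBasis_affineOpens
      (show x ∈ U.hom ⁻¹ᵁ W i from hi)
    exact ⟨i, V, hV, hxV, hVU⟩
  choose i V hV hxV hVW using key
  let g : ∀ x, Over.mk ((hV x).fromSpec ≫ U.hom) ⟶ U := fun x => Over.homMk (hV x).fromSpec
  have hmem : Sieve.ofArrows _ g ∈ QuotSh.J Scheme.fppfPrecoverage S U := by
    refine ofArrows_mem g ((Scheme.ofArrows_mem_precoverage_iff _).2 ⟨fun x => ?_, fun x => ?_⟩)
    · have : x ∈ Set.range (hV x).fromSpec := by rw [(hV x).range_fromSpec]; exact hxV x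
      obtain ⟨y, hy⟩ := this
      exact ⟨x, y, hy⟩
    · change (@Flat ⊓ @LocallyOfFinitePresentation : MorphismProperty Scheme.{u}) (hV x).fromSpec
      exact ⟨inferInstance, inferInstance⟩
  refine subsingleton_of_forall_eq 0 fun s => eq_zero_of_res M g hmem s fun x => ?_
  let A : CommRingCat.{u} := Γ(S, W (i x))
  let a : Spec A ⟶ S := (hW (i x)).fromSpec
  let φ : A ⟶ Γ(U.left, V x) := U.hom.appLE (W (i x)) (V x) (hVW x)
  letI : Algebra A Γ(U.left, V x) := φ.hom.toAlgebra
  let B : Adeq.Alg A := Adeq.algOf A Γ(U.left, V x)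
  let F := (Adeq.toMVF Scheme.fppfPrecoverage a).obj M
  let e₁ : so a B ≅ Over.mk ((hV x).fromSpec ≫ U.hom) := Over.isoMk (Iso.refl _) (by
    refine (Category.id_comp _).trans ?_
    exact ((hW (i x)).SpecMap_appLE_fromSpec U.hom (hV x) (hVW x)).symm)
  let e₂ : so a (Adeq.algOf A A) ≅ (BigSite.zarIncl S).obj (W (i x)) :=
    Over.isoMk (hW (i x)).isoSpec.symm (by
      change (hW (i x)).isoSpec.inv ≫ (W (i x)).ι = Spec.map (𝟙 A) ≫ a
      rw [Spec.map_id, Category.id_comp]
      rfl)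
  have hzero : ∀ z : F.obj (Adeq.pt (Adeq.algOf A A)), z = 0 := fun z => by
    obtain ⟨w, hw⟩ := (res_iso_bijective M e₂).2 z
    rw [← hw, (h0 (i x)).elim w 0, map_zero]
    rfl
  have hbc : IsIso (F.bc (unitHom Γ(U.left, V x) : Adeq.algOf A A ⟶ B)) :=
    isIso_bc_of_flat _ (adequate_toMVF M good_fppf hM a) (by
      change φ.hom.Flat
      exact U.hom.flat_appLE (hW (i x)) (hV x) (hVW x))
  have hB : ∀ z : F.obj (Adeq.pt B), z = 0 := fun z => by
    obtain ⟨w, rfl⟩ := ((ModuleCat.epi_iff_surjective _).1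
      (inferInstance : Epi (F.bc (unitHom Γ(U.left, V x) : Adeq.algOf A A ⟶ B)))) z
    induction w using TensorProduct.induction_on with
    | zero => exact map_zero _
    | add p q hp hq => exact (map_add _ p q).trans ((congrArg₂ (· + ·) hp hq).trans (add_zero _))
    | tmul r y => rw [hzero y, TensorProduct.tmul_zero]; exact map_zero _
  refine (res_iso_bijective M e₁).1 ?_
  exact (hB _).trans (map_zero (res M e₁.hom)).symm

end AdeqModLib
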