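import Groth.Agent.AdeqModLib.RPush
import Groth.Agent.AdeqModLib.Parasitic

/-!
Higher direct images of parasitic adequate modules are parasitic.
-/

set_option autoImplicit false
set_option maxHeartbeats 1600000
universe u

open CategoryTheory CategoryTheory.Limits AlgebraicGeometry Opposite
open AdeqLib

noncomputable section

namespace AdeqModLib

/-- Values of the cohomology of a complex of sheaves on affine objects. -/
theorem nonempty_homologyValueIso {K : Precoverage Scheme.{u}} [BigSite.OSh K] {S : Scheme.{u}} (hK : Good K)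
    (C : ShortComplex (BigSite.Mod K S))
    (h : ∀ (A : CommRingCat.{u}) (b : Spec A ⟶ S), Adeq.adequate A (C.map (Adeq.toMVF K b)).homology)
    {A : CommRingCat.{u}} (b : Spec A ⟶ S) :
    Nonempty ((C.map (Adeq.toMVF K b)).homology ≅ (Adeq.toMVF K b).obj C.homology) := by
  have : (incl K S).Additive := { }
  have : (PresheafOfModules.sheafification.{u + 1} (𝟙 (BigSite.ORing K S).obj)).Additive :=
    Functor.additive_of_preserves_binary_products _
  have : PreservesFiniteColimits (PresheafOfModules.sheafification.{u + 1} (𝟙 (BigSite.ORing K S).obj)) :=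
    ⟨fun J _ _ => inferInstance⟩
  let e : ∀ (A : CommRingCat.{u}) (b : Spec A ⟶ S),
      (C.map (Adeq.toMVF K b)).homology ≅ (Adeq.toMVFPre K b).obj (C.map (incl K S)).homology := fun A b =>
    haveI : PreservesFiniteColimits (Adeq.toMVFPre K b) := ⟨fun J _ _ => inferInstance⟩
    ShortComplex.homologyMapIso (C.mapNatIso (F := Adeq.toMVF K b) (G := incl K S ⋙ Adeq.toMVFPre K b)
      (NatIso.ofComponents (fun M => Iso.refl _))) ≪≫ (C.map (incl K S)).mapHomologyIso (Adeq.toMVFPre K b)
  have hP : ∀ (A : CommRingCat.{u}) (b : Spec A ⟶ S),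
      Adeq.adequate A ((Adeq.toMVFPre K b).obj (C.map (incl K S)).homology) := fun A b =>
    (Adeq.adequate A).prop_of_iso (e A b) (h A b)
  let c : aP (C.map (incl K S)).homology ≅ C.homology :=
    ((C.map (incl K S)).mapHomologyIso (PresheafOfModules.sheafification (𝟙 (BigSite.ORing K S).obj))).symm ≪≫
      ShortComplex.homologyMapIso (C.mapNatIso (counit K S)) ≪≫ Iso.refl _
  have := isIso_of_bijective (etaHom (C.map (incl K S)).homology b)
    fun B => eta_bijective (C.map (incl K S)).homology hP hK b B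
  exact ⟨e A b ≪≫ asIso (etaHom (C.map (incl K S)).homology b) ≪≫ (Adeq.toMVF K b).mapIso c⟩

variable {A : CommRingCat.{u}}

theorem subsingleton_of_iso {F G : Adeq.MVF A} (e : F ≅ G) (B : Adeq.Alg A) (h : Subsingleton (F.obj (Adeq.pt B))) :
    Subsingleton (G.obj (Adeq.pt B)) :=
  ((PresheafOfModules.evaluation _ (Adeq.pt B)).mapIso e).toLinearEquiv.toEquiv.subsingleton_congr.1 h

theorem subsingleton_middle {S : ShortComplex (Adeq.MVF A)} (hS : S.Exact) (B : Adeq.Alg A)
    (h₁ : Subsingleton (S.X₁.obj (Adeq.pt B))) (h₃ : Subsingleton (S.X₃.obj (Adeq.pt B))) :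
    Subsingleton (S.X₂.obj (Adeq.pt B)) := by
  refine subsingleton_of_forall_eq 0 fun x => ?_
  obtain ⟨y, hy⟩ := (exact_iff S).1 hS B x (h₃.elim _ _)
  rw [← hy, h₁.elim y 0, map_zero]

theorem subsingleton_homology_mv {C C₁ C₂ C₃ : CochainComplex (Adeq.MVF A) ℕ}
    (r₁ : C ⟶ C₁) (r₂ : C ⟶ C₂) (s₁ : C₁ ⟶ C₃) (s₂ : C₂ ⟶ C₃)
    (w : ∀ j B x, ap (s₁.f j) B (ap (r₁.f j) B x) = ap (s₂.f j) B (ap (r₂.f j) B x))
    (hinj : ∀ j B x, ap (r₁.f j) B x = 0 → ap (r₂.f j) B x = 0 → x = 0)
    (hglue : ∀ j B x₁ x₂, ap (s₁.f j) B x₁ = ap (s₂.f j) B x₂ → ∃ x, ap (r₁.f j) B x = x₁ ∧ ap (r₂.f j) B x = x₂)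
    (hsurj : ∀ j B, Function.Surjective (ap (s₁.f j) B)) (B : Adeq.Alg A)
    (H₁ : ∀ n, Subsingleton ((C₁.homology n).obj (Adeq.pt B)))
    (H₂ : ∀ n, Subsingleton ((C₂.homology n).obj (Adeq.pt B)))
    (H₃ : ∀ n, Subsingleton ((C₃.homology n).obj (Adeq.pt B))) (n : ℕ) :
    Subsingleton ((C.homology (n + 1)).obj (Adeq.pt B)) := by
  have hS := shortExact_mv r₁ r₂ s₁ s₂ w hinj hglue hsurj
  refine subsingleton_middle (hS.homology_exact₁ n (n + 1) rfl) B (H₃ n) ?_
  have := preservesBinaryBiproducts_of_preservesBiproducts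
    (HomologicalComplex.homologyFunctor (Adeq.MVF A) (ComplexShape.up ℕ) (n + 1))
  exact subsingleton_of_iso
    ((HomologicalComplex.homologyFunctor (Adeq.MVF A) (ComplexShape.up ℕ) (n + 1)).mapBiprod C₁ C₂).symm B
    (subsingleton_middle (ShortComplex.Splitting.ofHasBinaryBiproduct _ _).exact B (H₁ _) (H₂ _))

theorem flat_so_one : Flat (so (𝟙 (Spec A)) (Adeq.algOf A A)).hom := by
  change Flat (Spec.map (𝟙 A) ≫ 𝟙 (Spec A))
  rw [Spec.map_id, Category.id_comp]
  infer_instance

variable {X T : Scheme.{u}} (p : X ⟶ Spec A) (q : X ⟶ T)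

theorem flat_psnd {U : Scheme.{u}} (h : U ⟶ X) : Flat (psnd p h (Adeq.algOf A A)) :=
  MorphismProperty.of_isPullback (P := @Flat) (IsPullback.of_hasPullback _ _) flat_so_one

theorem subsingleton_ΦF (M : BigSite.Mod Scheme.fppfPrecoverage.{u} T)
    (hP : Adeq.parasitic Scheme.fppfPrecoverage T M) [Flat q] {U : Scheme.{u}} (h : U ⟶ X) [Flat h] :
    Subsingleton (((ΦF p q h).obj M).obj (Adeq.pt (Adeq.algOf A A))) := by
  refine hP ((Over.map q).obj (pobj p h (Adeq.algOf A A))) ?_
  have := flat_psnd p h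
  change Flat ((psnd p h (Adeq.algOf A A) ≫ h) ≫ q)
  infer_instance

theorem parasitic_RpushMod {S T : Scheme.{u}} (f : T ⟶ S) [QuasiCompact f] [QuasiSeparated f]
    [HasInjectiveResolutions (BigSite.Mod Scheme.fppfPrecoverage.{u} T)]
    (M : BigSite.Mod Scheme.fppfPrecoverage.{u} T) (hM : Adeq.adequateMod Scheme.fppfPrecoverage T M)
    (hP : Adeq.parasitic Scheme.fppfPrecoverage T M) (i : ℕ) :
    Adeq.parasitic Scheme.fppfPrecoverage S ((BigSite.RpushMod Scheme.fppfPrecoverage f i).obj M) := by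
  refine parasitic_of_affine_cover _ (adequateMod_RpushMod f M hM i) (ι := S.affineOpens) (fun V => V.1)
    (fun V => V.2) (iSup_affineOpens_eq_top S) fun V => ?_
  let I := (HasInjectiveResolution.out (Z := M)).some
  let A : CommRingCat.{u} := Γ(S, V.1)
  let b : Spec A ⟶ S := V.2.fromSpec
  let C := (((BigSite.pushMod Scheme.fppfPrecoverage f).mapHomologicalComplex _).obj I.cocomplex).sc i
  let e₀ : so b (Adeq.algOf A A) ≅ (BigSite.zarIncl S).obj V.1 :=
    Over.isoMk V.2.isoSpec.symm (by
      change V.2.isoSpec.inv ≫ V.1.ι = Spec.map (𝟙 A) ≫ b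
      rw [Spec.map_id, Category.id_comp]
      rfl)
  suffices h : Subsingleton (((Adeq.toMVF Scheme.fppfPrecoverage b).obj
      ((BigSite.RpushMod Scheme.fppfPrecoverage f i).obj M)).obj (Adeq.pt (Adeq.algOf A A))) from
    subsingleton_of_forall_eq 0 fun x => (res_iso_bijective _ e₀).1 (@Subsingleton.elim _ h _ _)
  let p := pullback.fst b f
  let q := pullback.snd b f
  have : CompactSpace ↥(pullback b f) := QuasiCompact.compactSpace_of_compactSpace p
  have : QuasiSeparatedSpace ↥(pullback b f) := quasiSeparatedSpace_of_quasiSeparated p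
  have hC : ∀ (A : CommRingCat.{u}) (b : Spec A ⟶ S),
      Adeq.adequate A (C.map (Adeq.toMVF Scheme.fppfPrecoverage b)).homology := fun A b =>
    adequate_homology_push f b I hM i
  obtain ⟨e⟩ := nonempty_homologyValueIso good_fppf C hC b
  refine subsingleton_of_iso ((Adeq.toMVF Scheme.fppfPrecoverage b).mapIso
    (I.isoRightDerivedObj (BigSite.pushMod Scheme.fppfPrecoverage f) i).symm) _ (subsingleton_of_iso e _ ?_)
  refine subsingleton_of_iso ((HomologicalComplex.homologyFunctor (Adeq.MVF A) (ComplexShape.up ℕ) i).mapIso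
    ((NatIso.mapHomologicalComplex (pushNT f b) _).app I.cocomplex)).symm _ ?_
  have hiso := isIso_resNT p q (h := (⊤ : (pullback b f).Opens).ι) (pullback b f).topIso.inv
    (pullback b f).topIso.inv_hom_id
  refine subsingleton_of_iso ((HomologicalComplex.homologyFunctor _ _ i).mapIso
    ((NatIso.mapHomologicalComplex (@asIso _ _ _ _ _ hiso) _).app I.cocomplex)) _ ?_
  suffices ∀ W : (pullback b f).Opens, IsCompact (W : Set ↥(pullback b f)) →
      ∀ n, Subsingleton (((Cx p q I W.ι).homology n).obj (Adeq.pt (Adeq.algOf A A))) from this ⊤ isCompact_univ i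
  have : IsOpenImmersion b := V.2.isOpenImmersion_fromSpec
  have : Flat q := MorphismProperty.of_isPullback (P := @Flat) (IsPullback.of_hasPullback b f) inferInstance
  have h₀ : ∀ W : (pullback b f).Opens,
      Subsingleton (((Cx p q I W.ι).homology 0).obj (Adeq.pt (Adeq.algOf A A))) := fun W => by
    have := preservesFiniteLimits_ΦF p q W.ι
    exact subsingleton_of_iso (((ΦF p q W.ι).rightDerivedZeroIsoSelf.app M).symm ≪≫
      I.isoRightDerivedObj (ΦF p q W.ι) 0) _ (subsingleton_ΦF p q M hP W.ι)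
  intro W hW
  refine induction_qcqs (fun W : (pullback b f).Opens =>
    ∀ n, Subsingleton (((Cx p q I W.ι).homology n).obj (Adeq.pt (Adeq.algOf A A))))
    (fun U hU n => ?_) (fun U V hU hV hUV n => ?_) W hW
  · cases n with
    | zero => exact h₀ U
    | succ n =>
      have : IsAffine (U : (pullback b f).Opens).toScheme := hU
      have hz := isZero_homology_affine p q I hM U.ι n
      exact ModuleCat.subsingleton_of_isZero ((PresheafOfModules.evaluation _ _).map_isZero hz)
  · cases n with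
    | zero => exact h₀ _
    | succ n =>
      let X := pullback b f
      have hsq := isPullback_opens_inf_le (X := X) (U := U) (V := V) (W := U ⊔ V) le_sup_left le_sup_right
      have hcov : Set.range (X.homOfLE (le_sup_left : U ≤ U ⊔ V)) ∪ Set.range (X.homOfLE (le_sup_right : V ≤ U ⊔ V)) =
          Set.univ := by
        refine Set.eq_univ_of_forall fun x => ?_
        rcases x.2 with hx | hx
        · exact Or.inl ⟨⟨x.1, hx⟩, Subtype.ext (by simp)⟩
        · exact Or.inr ⟨⟨x.1, hx⟩, Subtype.ext (by simp)⟩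
      let N := fun j => (BigSite.pullMod Scheme.fppfPrecoverage q).obj (I.cocomplex.X j)
      exact subsingleton_homology_mv (resCx p q I _ (X.homOfLE_ι le_sup_left)) (resCx p q I _ (X.homOfLE_ι le_sup_right))
        (resCx p q I _ (X.homOfLE_ι inf_le_left)) (resCx p q I _ (X.homOfLE_ι inf_le_right))
        (fun j B x => Φres_comm p (N j) _ _ _ _ hsq B x)
        (fun j B x => Φres_ap_injective p (N j) _ _ hcov B x)
        (fun j B x₁ x₂ => Φres_ap_glue p (N j) _ _ hcov _ _ hsq B x₁ x₂)
        (fun j B => Φres_ap_surjective p q (I.cocomplex.X j) _ _ B) _ hU hV hUV n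

end AdeqModLib
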