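import Groth.Agent.AdeqModLib.Adequate
import Groth.Agent.AdeqModLib.OpenInduction

/-!
The module-valued functor `B ↦ N(U ×_A Spec B)` attached to a scheme over an affine scheme.
-/

set_option autoImplicit false
set_option maxHeartbeats 1600000
universe u

open CategoryTheory CategoryTheory.Limits AlgebraicGeometry Opposite TensorProduct
open AdeqLib

noncomputable section

namespace AdeqModLib

variable {K : Precoverage Scheme.{u}} [BigSite.OSh K] {A : CommRingCat.{u}} {X : Scheme.{u}} (p : X ⟶ Spec A)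

/-- The object `U ×_A Spec B → U → X`. -/
abbrev pobj {U : Scheme.{u}} (h : U ⟶ X) (B : Adeq.Alg A) : Over X :=
  (Over.map h).obj ((Over.pullback (h ≫ p)).obj (so (𝟙 (Spec A)) B))

/-- The projection to `Spec B`. -/
abbrev pfst {U : Scheme.{u}} (h : U ⟶ X) (B : Adeq.Alg A) : (pobj p h B).left ⟶ (so (𝟙 (Spec A)) B).left :=
  pullback.fst (so (𝟙 (Spec A)) B).hom (h ≫ p)

/-- The projection to `U`. -/
abbrev psnd {U : Scheme.{u}} (h : U ⟶ X) (B : Adeq.Alg A) : (pobj p h B).left ⟶ U :=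
  pullback.snd (so (𝟙 (Spec A)) B).hom (h ≫ p)

theorem pobj_ext {U : Scheme.{u}} {h : U ⟶ X} {B : Adeq.Alg A} {Z : Over X} (g g' : Z ⟶ pobj p h B)
    (h₁ : g.left ≫ pfst p h B = g'.left ≫ pfst p h B) (h₂ : g.left ≫ psnd p h B = g'.left ≫ psnd p h B) :
    g = g' :=
  Over.OverMorphism.ext (pullback.hom_ext h₁ h₂)

/-- The map of objects attached to a map over `X`. -/
def pmap {U U' : Scheme.{u}} {h : U ⟶ X} {h' : U' ⟶ X} (k : U' ⟶ U) (w : k ≫ h = h') (B : Adeq.Alg A) :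
    pobj p h' B ⟶ pobj p h B :=
  Over.homMk (pullback.lift (pfst p h' B) (psnd p h' B ≫ k)
      ((pullback.condition (f := (so (𝟙 (Spec A)) B).hom) (g := h' ≫ p)).trans (by subst w; simp)))
    (by
      change pullback.lift _ _ _ ≫ psnd p h B ≫ h = psnd p h' B ≫ h'
      rw [pullback.lift_snd_assoc, Category.assoc, w])

theorem pmap_fst {U U' : Scheme.{u}} {h : U ⟶ X} {h' : U' ⟶ X} (k : U' ⟶ U) (w : k ≫ h = h') (B : Adeq.Alg A) :
    (pmap p k w B).left ≫ pfst p h B = pfst p h' B :=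
  pullback.lift_fst _ _ _

theorem pmap_snd {U U' : Scheme.{u}} {h : U ⟶ X} {h' : U' ⟶ X} (k : U' ⟶ U) (w : k ≫ h = h') (B : Adeq.Alg A) :
    (pmap p k w B).left ≫ psnd p h B = psnd p h' B ≫ k :=
  pullback.lift_snd _ _ _

/-- The map of objects attached to a map of algebras. -/
abbrev qmap {U : Scheme.{u}} (h : U ⟶ X) {B B' : Adeq.Alg A} (g : B ⟶ B') : pobj p h B' ⟶ pobj p h B :=
  (Over.map h).map ((Over.pullback (h ≫ p)).map (sm (𝟙 (Spec A)) g))

theorem qmap_fst {U : Scheme.{u}} (h : U ⟶ X) {B B' : Adeq.Alg A} (g : B ⟶ B') :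
    (qmap p h g).left ≫ pfst p h B = pfst p h B' ≫ (sm (𝟙 (Spec A)) g).left :=
  pullback.lift_fst _ _ _

theorem qmap_snd {U : Scheme.{u}} (h : U ⟶ X) {B B' : Adeq.Alg A} (g : B ⟶ B') :
    (qmap p h g).left ≫ psnd p h B = psnd p h B' :=
  pullback.lift_snd _ _ _

theorem qmap_pmap {U U' : Scheme.{u}} {h : U ⟶ X} {h' : U' ⟶ X} (k : U' ⟶ U) (w : k ≫ h = h')
    {B B' : Adeq.Alg A} (g : B ⟶ B') :
    qmap p h' g ≫ pmap p k w B = pmap p k w B' ≫ qmap p h g := by
  refine pobj_ext p _ _ ?_ ?_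
  · rw [Over.comp_left, Over.comp_left, Category.assoc, Category.assoc, pmap_fst, qmap_fst, qmap_fst,
      ← Category.assoc, pmap_fst]
  · rw [Over.comp_left, Over.comp_left, Category.assoc, Category.assoc, pmap_snd, qmap_snd, pmap_snd,
      ← Category.assoc, qmap_snd]

theorem pmap_comp {U U' U'' : Scheme.{u}} {h : U ⟶ X} {h' : U' ⟶ X} {h'' : U'' ⟶ X} (k : U' ⟶ U)
    (w : k ≫ h = h') (k' : U'' ⟶ U') (w' : k' ≫ h' = h'') (B : Adeq.Alg A) :
    pmap p k' w' B ≫ pmap p k w B = pmap p (k' ≫ k) (by rw [Category.assoc, w, w']) B := by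
  refine pobj_ext p _ _ ?_ ?_
  · rw [Over.comp_left, Category.assoc, pmap_fst, pmap_fst, pmap_fst]
  · rw [Over.comp_left, Category.assoc, pmap_snd, pmap_snd, ← Category.assoc, pmap_snd, Category.assoc]

theorem pmap_id {U : Scheme.{u}} {h : U ⟶ X} (w : 𝟙 U ≫ h = h) (B : Adeq.Alg A) : pmap p (𝟙 U) w B = 𝟙 _ := by
  refine pobj_ext p _ _ ?_ ?_
  · rw [pmap_fst]; exact (Category.id_comp _).symm
  · rw [pmap_snd, Category.comp_id]; exact (Category.id_comp _).symm

variable (N : BigSite.Mod K X)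

/-- The functor `B ↦ N(U ×_A Spec B)`. -/
def Φ {U : Scheme.{u}} (h : U ⟶ X) : Adeq.MVF A :=
  (Adeq.toMVF K (𝟙 (Spec A))).obj ((BigSite.pushMod K (h ≫ p)).obj ((BigSite.pullMod K h).obj N))

/-- Restriction along a map over `X`. -/
def Φres {U U' : Scheme.{u}} {h : U ⟶ X} {h' : U' ⟶ X} (k : U' ⟶ U) (w : k ≫ h = h') : Φ p N h ⟶ Φ p N h' :=
  mkHom (fun B => res N (pmap p k w B))
    (fun B b x => by
      refine (res_smul N (pmap p k w B) _ _).trans ?_
      refine congrArg (fun r : (BigSite.ORing K X).obj.obj (op (pobj p h' B)) => r • res N (pmap p k w B) x) ?_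
      apply ULift.ext
      change (pmap p k w B).left.appTop ((pfst p h B).appTop _) = (pfst p h' B).appTop _
      rw [← pmap_fst p k w B, Scheme.Hom.comp_appTop]
      rfl)
    (fun {B₁ B₂} g x => by
      change res N _ (res N _ x) = res N _ (res N _ x)
      refine (res_comp N _ _ x).symm.trans (Eq.trans ?_ (res_comp N _ _ x))
      exact congrArg (fun k => res N k x) (qmap_pmap p k w g).symm)

theorem ap_Φres {U U' : Scheme.{u}} {h : U ⟶ X} {h' : U' ⟶ X} (k : U' ⟶ U) (w : k ≫ h = h') (B : Adeq.Alg A)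
    (x : BigSite.sectMod K N (pobj p h B)) : ap (Φres p N k w) B x = res N (pmap p k w B) x := rfl

theorem isIso_Φres {U U' : Scheme.{u}} {h : U ⟶ X} {h' : U' ⟶ X} (k : U' ⟶ U) [IsIso k] (w : k ≫ h = h') :
    IsIso (Φres p N k w) :=
  isIso_of_bijective _ fun B => res_iso_bijective N
    { hom := pmap p k w B
      inv := pmap p (inv k) (by rw [← w, IsIso.inv_hom_id_assoc]) B
      hom_inv_id := by rw [pmap_comp]; refine Eq.trans ?_ (pmap_id p (Category.id_comp _) B); congr 1; simp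
      inv_hom_id := by rw [pmap_comp]; refine Eq.trans ?_ (pmap_id p (Category.id_comp _) B); congr 1; simp }

theorem adequate_Φ_of_iso {U U' : Scheme.{u}} {h : U ⟶ X} {h' : U' ⟶ X} (k : U' ⟶ U) [IsIso k] (w : k ≫ h = h') :
    Adeq.adequate A (Φ p N h) ↔ Adeq.adequate A (Φ p N h') := by
  have := isIso_Φres p N k w
  exact (Adeq.adequate A).prop_iff_of_iso (asIso (Φres p N k w))

end AdeqModLib
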