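import Groth.Agent.AdeqModLib.PushPhi
import Groth.Agent.AdeqModLib.InjExact
import Groth.Agent.AdeqModLib.ComplexMV

/-!
Cohomology of `B ↦ I(U ×_A Spec B)` for an injective resolution `I`.
-/

set_option autoImplicit false
set_option maxHeartbeats 1600000
universe u

open CategoryTheory CategoryTheory.Limits AlgebraicGeometry Opposite
open AdeqLib

noncomputable section

namespace AdeqModLib

variable {T : Scheme.{u}} {A : CommRingCat.{u}} {X : Scheme.{u}} (p : X ⟶ Spec A) (q : X ⟶ T)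

/-- `N ↦ Φ p N h` as a functor. -/
def ΦN {U : Scheme.{u}} (h : U ⟶ X) : BigSite.Mod Scheme.fppfPrecoverage.{u} X ⥤ Adeq.MVF A :=
  BigSite.pullMod Scheme.fppfPrecoverage h ⋙
    BigSite.pushMod Scheme.fppfPrecoverage (h ≫ p) ⋙ Adeq.toMVF Scheme.fppfPrecoverage (𝟙 (Spec A))

/-- `M ↦ (B ↦ M(U ×_A Spec B))`. -/
def ΦF {U : Scheme.{u}} (h : U ⟶ X) : BigSite.Mod Scheme.fppfPrecoverage.{u} T ⥤ Adeq.MVF A :=
  BigSite.pullMod Scheme.fppfPrecoverage q ⋙ ΦN p h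

instance additive_ΦN {U : Scheme.{u}} (h : U ⟶ X) : (ΦN p h).Additive where
  map_add {M N f g} := hom_ext fun B x => rfl

instance additive_pullMod {Y Z : Scheme.{u}} (r : Y ⟶ Z) :
    (BigSite.pullMod Scheme.fppfPrecoverage.{u} r).Additive where

instance additive_ΦF {U : Scheme.{u}} (h : U ⟶ X) : (ΦF p q h).Additive := by
  unfold ΦF
  infer_instance

/-- Restriction as a natural transformation. -/
def resN {U U' : Scheme.{u}} {h : U ⟶ X} {h' : U' ⟶ X} (k : U' ⟶ U) (w : k ≫ h = h') :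
    ΦN p h ⟶ ΦN p h' where
  app N := Φres p N k w
  naturality M N φ := hom_ext fun B x => res_mapp φ (pmap p k w B) x

/-- Restriction as a natural transformation. -/
def resNT {U U' : Scheme.{u}} {h : U ⟶ X} {h' : U' ⟶ X} (k : U' ⟶ U) (w : k ≫ h = h') :
    ΦF p q h ⟶ ΦF p q h' :=
  Functor.whiskerLeft (BigSite.pullMod Scheme.fppfPrecoverage q) (resN p k w)

theorem isIso_resNT {U U' : Scheme.{u}} {h : U ⟶ X} {h' : U' ⟶ X} (k : U' ⟶ U) [IsIso k] (w : k ≫ h = h') :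
    IsIso (resNT p q k w) := by
  have : ∀ M, IsIso ((resNT p q k w).app M) := fun M =>
    isIso_Φres p ((BigSite.pullMod Scheme.fppfPrecoverage q).obj M) k w
  exact NatIso.isIso_of_isIso_app _

theorem ex_pullMod {Y : Scheme.{u}} (r : Y ⟶ T) {P Q R : BigSite.Mod Scheme.fppfPrecoverage.{u} T}
    (f : P ⟶ Q) (g : Q ⟶ R) (V : Over Y)
    (hex : ∀ x : BigSite.sectMod Scheme.fppfPrecoverage Q ((Over.map r).obj V),
      mapp g ((Over.map r).obj V) x = 0 → ∃ y, mapp f ((Over.map r).obj V) y = x) :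
    ∀ x : BigSite.sectMod Scheme.fppfPrecoverage ((BigSite.pullMod Scheme.fppfPrecoverage r).obj Q) V,
      mapp ((BigSite.pullMod Scheme.fppfPrecoverage r).map g) V x = 0 →
        ∃ y, mapp ((BigSite.pullMod Scheme.fppfPrecoverage r).map f) V y = x :=
  fun x hx => hex x hx

theorem ex_ΦN {U : Scheme.{u}} (h : U ⟶ X) {P Q R : BigSite.Mod Scheme.fppfPrecoverage.{u} X}
    (f : P ⟶ Q) (g : Q ⟶ R) (B : Adeq.Alg A)
    (hex : ∀ x : BigSite.sectMod Scheme.fppfPrecoverage Q (pobj p h B),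
      mapp g (pobj p h B) x = 0 → ∃ y, mapp f (pobj p h B) y = x) :
    ∀ x : ((ΦN p h).obj Q).obj (Adeq.pt B), ap ((ΦN p h).map g) B x = 0 → ∃ y, ap ((ΦN p h).map f) B y = x :=
  fun x hx => hex x hx

theorem ex_ΦF {U : Scheme.{u}} (h : U ⟶ X) {P Q R : BigSite.Mod Scheme.fppfPrecoverage.{u} T}
    (f : P ⟶ Q) (g : Q ⟶ R) (B : Adeq.Alg A)
    (hex : ∀ x : BigSite.sectMod Scheme.fppfPrecoverage Q ((Over.map q).obj (pobj p h B)),
      mapp g ((Over.map q).obj (pobj p h B)) x = 0 → ∃ y, mapp f ((Over.map q).obj (pobj p h B)) y = x) :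
    ∀ x : ((ΦN p h).obj ((BigSite.pullMod Scheme.fppfPrecoverage q).obj Q)).obj (Adeq.pt B),
      ap ((ΦN p h).map ((BigSite.pullMod Scheme.fppfPrecoverage q).map g)) B x = 0 →
        ∃ y, ap ((ΦN p h).map ((BigSite.pullMod Scheme.fppfPrecoverage q).map f)) B y = x :=
  ex_ΦN p h _ _ B (ex_pullMod q f g (pobj p h B) hex)

section elementwise

variable (N : BigSite.Mod Scheme.fppfPrecoverage.{u} X)
  {W U₁ U₂ U₃ : Scheme.{u}} {h : W ⟶ X} {h₁ : U₁ ⟶ X} {h₂ : U₂ ⟶ X} {h₃ : U₃ ⟶ X}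
  {k₁ : U₁ ⟶ W} {k₂ : U₂ ⟶ W} [IsOpenImmersion k₁] [IsOpenImmersion k₂] (w₁ : k₁ ≫ h = h₁) (w₂ : k₂ ≫ h = h₂)
  (hcov : Set.range k₁ ∪ Set.range k₂ = Set.univ)
  {e₁ : U₃ ⟶ U₁} {e₂ : U₃ ⟶ U₂} (v₁ : e₁ ≫ h₁ = h₃) (v₂ : e₂ ≫ h₂ = h₃) (sq : IsPullback e₁ e₂ k₁ k₂)

include sq in
theorem Φres_comm (B : Adeq.Alg A) (x : (Φ p N h).obj (Adeq.pt B)) :
    ap (Φres p N e₁ v₁) B (ap (Φres p N k₁ w₁) B x) = ap (Φres p N e₂ v₂) B (ap (Φres p N k₂ w₂) B x) := by
  have key : ∀ y : BigSite.sectMod Scheme.fppfPrecoverage N (pobj p h B),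
      res N (pmap p e₁ v₁ B) (res N (pmap p k₁ w₁ B) y) = res N (pmap p e₂ v₂ B) (res N (pmap p k₂ w₂ B) y) :=
    fun y => by
      rw [← res_comp, ← res_comp, pmap_comp, pmap_comp]
      congr 3
      exact sq.w
  exact key x

include hcov in
theorem Φres_ap_injective (B : Adeq.Alg A) (x : (Φ p N h).obj (Adeq.pt B))
    (hx₁ : ap (Φres p N k₁ w₁) B x = 0) (hx₂ : ap (Φres p N k₂ w₂) B x = 0) : x = 0 :=
  Φres_pair_injective p N w₁ w₂ hcov B x hx₁ hx₂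

include hcov sq in
theorem Φres_ap_glue (B : Adeq.Alg A) (x₁ : (Φ p N h₁).obj (Adeq.pt B)) (x₂ : (Φ p N h₂).obj (Adeq.pt B))
    (hx : ap (Φres p N e₁ v₁) B x₁ = ap (Φres p N e₂ v₂) B x₂) :
    ∃ x, ap (Φres p N k₁ w₁) B x = x₁ ∧ ap (Φres p N k₂ w₂) B x = x₂ :=
  Φres_pair_glue p N w₁ w₂ hcov v₁ v₂ sq B x₁ x₂ hx

theorem Φres_ap_surjective (J : BigSite.Mod Scheme.fppfPrecoverage.{u} T) [Injective J] {U U' : Scheme.{u}}
    {h : U ⟶ X} {h' : U' ⟶ X} (k : U' ⟶ U) [IsOpenImmersion k] (w : k ≫ h = h') (B : Adeq.Alg A) :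
    Function.Surjective (ap (Φres p ((BigSite.pullMod Scheme.fppfPrecoverage q).obj J) k w) B) := fun y => by
  have : Mono ((Over.map q).map (pmap p k w B)) := (Over.forget T).mono_of_mono_map (by
    change Mono (pmap p k w B).left
    infer_instance)
  exact res_surjective_of_injective J ((Over.map q).map (pmap p k w B)) y

end elementwise

variable {M : BigSite.Mod Scheme.fppfPrecoverage.{u} T} (I : InjectiveResolution M)

/-- The complex computing the higher cohomology on `U`. -/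
abbrev Cx {U : Scheme.{u}} (h : U ⟶ X) : CochainComplex (Adeq.MVF A) ℕ :=
  ((ΦF p q h).mapHomologicalComplex _).obj I.cocomplex

/-- Restriction on complexes. -/
abbrev resCx {U U' : Scheme.{u}} {h : U ⟶ X} {h' : U' ⟶ X} (k : U' ⟶ U) (w : k ≫ h = h') :
    Cx p q I h ⟶ Cx p q I h' :=
  (NatTrans.mapHomologicalComplex (resNT p q k w) _).app I.cocomplex

theorem adequate_homology_of_isIso {U U' : Scheme.{u}} {h : U ⟶ X} {h' : U' ⟶ X} (k : U' ⟶ U) [IsIso k]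
    (w : k ≫ h = h') (n : ℕ) :
    Adeq.adequate A ((Cx p q I h).homology n) ↔ Adeq.adequate A ((Cx p q I h').homology n) := by
  have := isIso_resNT p q k w
  exact (Adeq.adequate A).prop_iff_of_iso ((HomologicalComplex.homologyFunctor _ _ n).mapIso
    ((NatIso.mapHomologicalComplex (asIso (resNT p q k w)) _).app I.cocomplex))

variable (hM : Adeq.adequateMod Scheme.fppfPrecoverage T M)

include hM

theorem isZero_homology_affine {U : Scheme.{u}} [IsAffine U] (h : U ⟶ X) (n : ℕ) :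
    IsZero ((Cx p q I h).homology (n + 1)) := by
  refine HomologicalComplex.ExactAt.isZero_homology ?_
  rw [HomologicalComplex.exactAt_iff' _ n (n + 1) (n + 1 + 1) (by simp) (by simp)]
  refine (exact_iff _).2 fun B => ?_
  refine ex_ΦF p q h (I.cocomplex.d n (n + 1)) (I.cocomplex.d (n + 1) (n + 1 + 1)) B fun x hx => ?_
  have : IsAffine (so (𝟙 (Spec A)) B).left := inferInstanceAs (IsAffine (Spec _))
  have : IsAffine ((Over.map q).obj (pobj p h B)).left :=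
    inferInstanceAs (IsAffine (pullback (so (𝟙 (Spec A)) B).hom (h ≫ p)))
  exact exists_d_eq I hM n _ x hx

theorem adequate_homology_affine {U : Scheme.{u}} [IsAffine U] (h : U ⟶ X) (n : ℕ) :
    Adeq.adequate A ((Cx p q I h).homology (n + 1)) :=
  (Adeq.adequate A).prop_of_isZero (isZero_homology_affine p q I hM h n)

omit hM

variable {W U₁ U₂ U₃ : Scheme.{u}} {h : W ⟶ X} {h₁ : U₁ ⟶ X} {h₂ : U₂ ⟶ X} {h₃ : U₃ ⟶ X}
  {k₁ : U₁ ⟶ W} {k₂ : U₂ ⟶ W} [IsOpenImmersion k₁] [IsOpenImmersion k₂] (w₁ : k₁ ≫ h = h₁) (w₂ : k₂ ≫ h = h₂)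
  (hcov : Set.range k₁ ∪ Set.range k₂ = Set.univ)
  {e₁ : U₃ ⟶ U₁} {e₂ : U₃ ⟶ U₂} (v₁ : e₁ ≫ h₁ = h₃) (v₂ : e₂ ≫ h₂ = h₃) (sq : IsPullback e₁ e₂ k₁ k₂)

include w₁ w₂ hcov v₁ v₂ sq in
theorem adequate_homology_union (H₁ : ∀ n, Adeq.adequate A ((Cx p q I h₁).homology n))
    (H₂ : ∀ n, Adeq.adequate A ((Cx p q I h₂).homology n)) (H₃ : ∀ n, Adeq.adequate A ((Cx p q I h₃).homology n))
    (n : ℕ) : Adeq.adequate A ((Cx p q I h).homology (n + 1)) :=
  adequate_homology_mv (resCx p q I k₁ w₁) (resCx p q I k₂ w₂) (resCx p q I e₁ v₁) (resCx p q I e₂ v₂)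
    (fun j B x => Φres_comm p ((BigSite.pullMod Scheme.fppfPrecoverage q).obj (I.cocomplex.X j)) w₁ w₂ v₁ v₂ sq B x)
    (fun j B x => Φres_ap_injective p ((BigSite.pullMod Scheme.fppfPrecoverage q).obj (I.cocomplex.X j)) w₁ w₂ hcov B x)
    (fun j B x₁ x₂ => Φres_ap_glue p ((BigSite.pullMod Scheme.fppfPrecoverage q).obj (I.cocomplex.X j)) w₁ w₂ hcov
      v₁ v₂ sq B x₁ x₂)
    (fun j B => by
      have : IsOpenImmersion e₁ := MorphismProperty.of_isPullback (P := @IsOpenImmersion) sq.flip inferInstance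
      exact Φres_ap_surjective p q (I.cocomplex.X j) e₁ v₁ B)
    H₁ H₂ H₃ n

end AdeqModLib
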