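import Groth.Agent.AdeqModLib.Phi
import Groth.Agent.AdeqModLib.Exact

/-!
Adequacy of `B ↦ N(U ×_A Spec B)` for quasi-compact opens of a quasi-separated scheme.
-/

set_option autoImplicit false
set_option maxHeartbeats 1600000
universe u

open CategoryTheory CategoryTheory.Limits AlgebraicGeometry Opposite TensorProduct
open AdeqLib

noncomputable section

namespace AdeqModLib

section affine

variable {K : Precoverage Scheme.{u}} [BigSite.OSh K] {A : CommRingCat.{u}} {X : Scheme.{u}} (p : X ⟶ Spec A)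
  (N : BigSite.Mod K X) {R : CommRingCat.{u}} [Algebra A R] (h : Spec R ⟶ X)
  (hφ : Spec.map (CommRingCat.ofHom (algebraMap A R)) = h ≫ p)

include hφ

theorem isPullback_affine (B : Adeq.Alg A) :
    IsPullback (Spec.map (CommRingCat.ofHom
        ((Algebra.TensorProduct.includeRight : (B : Type u) →ₐ[A] (R : Type u) ⊗[A] (B : Type u))).toRingHom))
      (Spec.map (CommRingCat.ofHom
        (Algebra.TensorProduct.includeLeftRingHom : (R : Type u) →+* (R : Type u) ⊗[A] (B : Type u))))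
      (so (𝟙 (Spec A)) B).hom (h ≫ p) := by
  rw [← hφ]
  refine IsPullback.of_iso (isPullback_SpecMap_of_isPushout _ _ _ _
    (CommRingCat.isPushout_tensorProduct A R B)).flip (Iso.refl _) (Iso.refl _) (Iso.refl _) (Iso.refl _)
    ?_ ?_ ?_ ?_
  all_goals first
    | exact ((Category.id_comp _).trans (Category.comp_id _)).symm
    | simp

/-- The objects attached to an algebra, for an affine source. -/
def affIso (B : Adeq.Alg A) : so h (pB R B) ≅ pobj p h B :=
  Over.isoMk (isPullback_affine p h hφ B).isoPullback (by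
    change (isPullback_affine p h hφ B).isoPullback.hom ≫ psnd p h B ≫ h = _
    exact (Category.assoc _ _ _).symm.trans
      (congrArg (· ≫ h) (isPullback_affine p h hφ B).isoPullback_hom_snd))

theorem affIso_nat {B B' : Adeq.Alg A} (g : B ⟶ B') :
    sm h ((Adeq.Alg.baseChange A R).map g) ≫ (affIso p h hφ B).hom = (affIso p h hφ B').hom ≫ qmap p h g := by
  refine pobj_ext p _ _ ?_ ?_
  · rw [Over.comp_left, Over.comp_left, Category.assoc, Category.assoc, qmap_fst]
    change _ ≫ (isPullback_affine p h hφ B).isoPullback.hom ≫ pfst p h B =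
      (isPullback_affine p h hφ B').isoPullback.hom ≫ pfst p h B' ≫ _
    refine (congrArg (_ ≫ ·) (isPullback_affine p h hφ B).isoPullback_hom_fst).trans
      (Eq.trans ?_ (Category.assoc _ _ _))
    refine Eq.trans ?_ (congrArg (· ≫ _) (isPullback_affine p h hφ B').isoPullback_hom_fst).symm
    refine (Spec.map_comp _ _).symm.trans (Eq.trans ?_ (Spec.map_comp _ _))
    congr 1
  · rw [Over.comp_left, Over.comp_left, Category.assoc, Category.assoc, qmap_snd]
    change _ ≫ (isPullback_affine p h hφ B).isoPullback.hom ≫ psnd p h B =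
      (isPullback_affine p h hφ B').isoPullback.hom ≫ psnd p h B'
    refine (congrArg (_ ≫ ·) (isPullback_affine p h hφ B).isoPullback_hom_snd).trans
      (Eq.trans ?_ (isPullback_affine p h hφ B').isoPullback_hom_snd.symm)
    refine (Spec.map_comp _ _).symm.trans ?_
    congr 1
    ext r
    change (Algebra.TensorProduct.map (AlgHom.id (R : Type u) (R : Type u)) g.hom) (r ⊗ₜ[A] (1 : B)) =
      r ⊗ₜ[A] (1 : B')
    simp

theorem affIso_inv_nat {B B' : Adeq.Alg A} (g : B ⟶ B') :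
    (affIso p h hφ B').inv ≫ sm h ((Adeq.Alg.baseChange A R).map g) = qmap p h g ≫ (affIso p h hφ B).inv := by
  rw [Iso.inv_comp_eq, ← Category.assoc, Iso.eq_comp_inv]
  exact affIso_nat p h hφ g

/-- Sections over an affine source. -/
def affHom : (Adeq.push A R).obj ((Adeq.toMVF K h).obj N) ⟶ Φ p N h :=
  mkHom (fun B => res N (affIso p h hφ B).inv)
    (fun B b x => by
      refine (res_smul N (affIso p h hφ B).inv (Adeq.toSect K h (pB R B) ((1 : R) ⊗ₜ[A] b)) x).trans ?_
      refine congrArg (fun r : (BigSite.ORing K X).obj.obj (op (pobj p h B)) =>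
        r • res N (affIso p h hφ B).inv x) ?_
      apply ULift.ext
      change (affIso p h hφ B).inv.left.appTop ((Scheme.ΓSpecIso (CommRingCat.of ((R : Type u) ⊗[A] (B : Type u)))).inv _) =
        (pfst p h B).appTop _
      have e : (affIso p h hφ B).inv.left ≫ Spec.map (CommRingCat.ofHom
          ((Algebra.TensorProduct.includeRight : (B : Type u) →ₐ[A] (R : Type u) ⊗[A] (B : Type u))).toRingHom) =
          pfst p h B := (isPullback_affine p h hφ B).isoPullback_inv_fst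
      refine Eq.trans ?_ (congrArg (fun k : (pobj p h B).left ⟶ (so (𝟙 (Spec A)) B).left =>
        (Scheme.Hom.appTop k) ((Scheme.ΓSpecIso (CommRingCat.of (B : Type u))).inv b)) e)
      exact congrArg ((affIso p h hφ B).inv.left.appTop ·) (ΓSpecIso_inv_map
        ((Algebra.TensorProduct.includeRight : (B : Type u) →ₐ[A] (R : Type u) ⊗[A] (B : Type u))).toRingHom b).symm)
    (fun {B₁ B₂} g x => by
      change res N _ (res N _ x) = res N _ (res N _ x)
      refine (res_comp N _ _ x).symm.trans (Eq.trans ?_ (res_comp N _ _ x))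
      exact congrArg (fun k => res N k x) (affIso_inv_nat p h hφ g))

theorem adequate_Φ_affine' (hN : Adeq.adequate R ((Adeq.toMVF K h).obj N)) : Adeq.adequate A (Φ p N h) := by
  have := isIso_of_bijective (affHom p N h hφ) fun B => res_iso_bijective N (affIso p h hφ B).symm
  exact (Adeq.adequate A).prop_of_iso (asIso (affHom p N h hφ)) (adequate_push hN)

end affine

theorem adequate_Φ_affine {K : Precoverage Scheme.{u}} [BigSite.OSh K] {A : CommRingCat.{u}} {X : Scheme.{u}}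
    (p : X ⟶ Spec A) (N : BigSite.Mod K X) {R : CommRingCat.{u}} (h : Spec R ⟶ X)
    (hN : Adeq.adequate R ((Adeq.toMVF K h).obj N)) : Adeq.adequate A (Φ p N h) := by
  letI : Algebra A R := (Spec.preimage (h ≫ p)).hom.toAlgebra
  exact adequate_Φ_affine' p N h (Spec.map_preimage (h ≫ p)) hN

section mayerVietoris

variable {A : CommRingCat.{u}} {X : Scheme.{u}} (p : X ⟶ Spec A) (N : BigSite.Mod Scheme.fppfPrecoverage.{u} X)

theorem isPullback_pmap {U U' : Scheme.{u}} {h : U ⟶ X} {h' : U' ⟶ X} (k : U' ⟶ U) (w : k ≫ h = h')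
    (B : Adeq.Alg A) : IsPullback (pmap p k w B).left (psnd p h' B) (psnd p h B) k := by
  refine IsPullback.of_right (h₁₂ := pfst p h B) (v₁₃ := (so (𝟙 (Spec A)) B).hom) (h₂₂ := h ≫ p) ?_
    (pmap_snd p k w B) (IsPullback.of_hasPullback _ _).flip.flip
  rw [pmap_fst, ← Category.assoc, w]
  exact IsPullback.of_hasPullback _ _

instance isOpenImmersion_pmap {U U' : Scheme.{u}} {h : U ⟶ X} {h' : U' ⟶ X} (k : U' ⟶ U) [IsOpenImmersion k]
    (w : k ≫ h = h') (B : Adeq.Alg A) : IsOpenImmersion (pmap p k w B).left :=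
  MorphismProperty.of_isPullback (P := @IsOpenImmersion) (isPullback_pmap p k w B).flip inferInstance

variable {W U₁ U₂ U₃ : Scheme.{u}} {h : W ⟶ X} {h₁ : U₁ ⟶ X} {h₂ : U₂ ⟶ X} {h₃ : U₃ ⟶ X}
  {k₁ : U₁ ⟶ W} {k₂ : U₂ ⟶ W} [IsOpenImmersion k₁] [IsOpenImmersion k₂] (w₁ : k₁ ≫ h = h₁) (w₂ : k₂ ≫ h = h₂)
  (hcov : Set.range k₁ ∪ Set.range k₂ = Set.univ)
  {e₁ : U₃ ⟶ U₁} {e₂ : U₃ ⟶ U₂} (v₁ : e₁ ≫ h₁ = h₃) (v₂ : e₂ ≫ h₂ = h₃) (sq : IsPullback e₁ e₂ k₁ k₂)

include hcov in
theorem mem_pmap_cover (B : Adeq.Alg A) :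
    Sieve.ofArrows (fun i : ULift.{u} Bool => bif i.down then pobj p h₁ B else pobj p h₂ B)
      (fun i => match i with
        | ⟨true⟩ => pmap p k₁ w₁ B
        | ⟨false⟩ => pmap p k₂ w₂ B) ∈ QuotSh.J Scheme.fppfPrecoverage X (pobj p h B) := by
  refine ofArrows_mem _ ((Scheme.ofArrows_mem_precoverage_iff _).2 ⟨fun x => ?_, fun i => ?_⟩)
  · rcases (show psnd p h B x ∈ Set.range k₁ ∪ Set.range k₂ by rw [hcov]; trivial) with ⟨y, hy⟩ | ⟨y, hy⟩
    · obtain ⟨z, hz, -⟩ := Scheme.exists_preimage_of_isPullback (isPullback_pmap p k₁ w₁ B) x y hy.symm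
      exact ⟨⟨true⟩, z, hz⟩
    · obtain ⟨z, hz, -⟩ := Scheme.exists_preimage_of_isPullback (isPullback_pmap p k₂ w₂ B) x y hy.symm
      exact ⟨⟨false⟩, z, hz⟩
  · rcases i with ⟨_ | _⟩
    · change (@Flat ⊓ @LocallyOfFinitePresentation : MorphismProperty Scheme.{u}) (pmap p k₂ w₂ B).left
      exact ⟨inferInstance, inferInstance⟩
    · change (@Flat ⊓ @LocallyOfFinitePresentation : MorphismProperty Scheme.{u}) (pmap p k₁ w₁ B).left
      exact ⟨inferInstance, inferInstance⟩

include hcov in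
theorem Φres_pair_injective (B : Adeq.Alg A) (x : BigSite.sectMod Scheme.fppfPrecoverage N (pobj p h B))
    (hx₁ : res N (pmap p k₁ w₁ B) x = 0) (hx₂ : res N (pmap p k₂ w₂ B) x = 0) : x = 0 := by
  refine eq_zero_of_res N _ (mem_pmap_cover p w₁ w₂ hcov B) x fun i => ?_
  rcases i with ⟨_ | _⟩
  · exact hx₂
  · exact hx₁

include hcov sq in
theorem Φres_pair_glue (B : Adeq.Alg A) (x₁ : BigSite.sectMod Scheme.fppfPrecoverage N (pobj p h₁ B))
    (x₂ : BigSite.sectMod Scheme.fppfPrecoverage N (pobj p h₂ B))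
    (hx : res N (pmap p e₁ v₁ B) x₁ = res N (pmap p e₂ v₂ B) x₂) :
    ∃ x, res N (pmap p k₁ w₁ B) x = x₁ ∧ res N (pmap p k₂ w₂ B) x = x₂ := by
  have key : ∀ (Z : Over X) (a : Z ⟶ pobj p h₁ B) (b : Z ⟶ pobj p h₂ B),
      a ≫ pmap p k₁ w₁ B = b ≫ pmap p k₂ w₂ B → res N a x₁ = res N b x₂ := by
    intro Z a b hab
    have hl : a.left ≫ (pmap p k₁ w₁ B).left = b.left ≫ (pmap p k₂ w₂ B).left :=
      congrArg (fun k => k.left) hab
    have hfst : a.left ≫ pfst p h₁ B = b.left ≫ pfst p h₂ B := by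
      rw [← pmap_fst p k₁ w₁ B, ← pmap_fst p k₂ w₂ B, ← Category.assoc, hl, Category.assoc]
    have hsnd : (a.left ≫ psnd p h₁ B) ≫ k₁ = (b.left ≫ psnd p h₂ B) ≫ k₂ := by
      rw [Category.assoc, Category.assoc, ← pmap_snd p k₁ w₁ B, ← pmap_snd p k₂ w₂ B, ← Category.assoc, hl,
        Category.assoc]
    let c : Z ⟶ pobj p h₃ B := Over.homMk (pullback.lift (a.left ≫ pfst p h₁ B) (sq.lift _ _ hsnd) (by
        rw [← v₁, Category.assoc, Category.assoc, ← Category.assoc (sq.lift _ _ hsnd), sq.lift_fst]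
        simp only [Category.assoc]
        exact congrArg (a.left ≫ ·) pullback.condition)) (by
      change pullback.lift _ _ _ ≫ psnd p h₃ B ≫ h₃ = _
      rw [pullback.lift_snd_assoc, ← v₁, ← Category.assoc, sq.lift_fst, Category.assoc]
      exact Over.w a)
    have ha : c ≫ pmap p e₁ v₁ B = a := by
      refine pobj_ext p _ _ ?_ ?_
      · rw [Over.comp_left, Category.assoc, pmap_fst]
        exact pullback.lift_fst _ _ _
      · rw [Over.comp_left, Category.assoc, pmap_snd]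
        change pullback.lift _ _ _ ≫ psnd p h₃ B ≫ e₁ = _
        rw [pullback.lift_snd_assoc, sq.lift_fst]
    have hb : c ≫ pmap p e₂ v₂ B = b := by
      refine pobj_ext p _ _ ?_ ?_
      · rw [Over.comp_left, Category.assoc, pmap_fst, ← hfst]
        exact pullback.lift_fst _ _ _
      · rw [Over.comp_left, Category.assoc, pmap_snd]
        change pullback.lift _ _ _ ≫ psnd p h₃ B ≫ e₂ = _
        rw [pullback.lift_snd_assoc, sq.lift_snd]
    rw [← ha, ← hb, res_comp, res_comp, hx]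
  obtain ⟨x, hx'⟩ := exists_glue N _ (mem_pmap_cover p w₁ w₂ hcov B)
    (fun i => match i with
      | ⟨true⟩ => x₁
      | ⟨false⟩ => x₂) (by
    rintro ⟨_ | _⟩ ⟨_ | _⟩ Z a b hab
    · have : Mono (pmap p k₂ w₂ B) := (Over.forget X).mono_of_mono_map (by
        change Mono (pmap p k₂ w₂ B).left; infer_instance)
      rw [(cancel_mono (pmap p k₂ w₂ B)).1 hab]
    · exact (key Z b a hab.symm).symm
    · exact key Z a b hab
    · have : Mono (pmap p k₁ w₁ B) := (Over.forget X).mono_of_mono_map (by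
        change Mono (pmap p k₁ w₁ B).left; infer_instance)
      rw [(cancel_mono (pmap p k₁ w₁ B)).1 hab])
  exact ⟨x, hx' ⟨true⟩, hx' ⟨false⟩⟩

include w₁ w₂ hcov v₁ v₂ sq in
theorem adequate_Φ_union (hU₁ : Adeq.adequate A (Φ p N h₁)) (hU₂ : Adeq.adequate A (Φ p N h₂))
    (hU₃ : Adeq.adequate A (Φ p N h₃)) : Adeq.adequate A (Φ p N h) := by
  have hsum : Adeq.adequate A (Φ p N h₁ ⊞ Φ p N h₂) :=
    adequate_of_shortExact (ShortComplex.Splitting.ofHasBinaryBiproduct (Φ p N h₁) (Φ p N h₂)).shortExact hU₁ hU₂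
  let s₁ := Φres p N k₁ w₁
  let s₂ := Φres p N k₂ w₂
  let d : Φ p N h₁ ⊞ Φ p N h₂ ⟶ Φ p N h₃ := biprod.fst ≫ Φres p N e₁ v₁ - biprod.snd ≫ Φres p N e₂ v₂
  have hd : ∀ B z, ap d B z = ap (Φres p N e₁ v₁) B (ap biprod.fst B z) -
      ap (Φres p N e₂ v₂) B (ap biprod.snd B z) := fun B z => rfl
  have hf : ∀ B x, ap (biprod.fst : Φ p N h₁ ⊞ Φ p N h₂ ⟶ _) B (ap (biprod.lift s₁ s₂) B x) = ap s₁ B x := fun B x => by
    rw [← ap_comp, biprod.lift_fst]
  have hs : ∀ B x, ap (biprod.snd : Φ p N h₁ ⊞ Φ p N h₂ ⟶ _) B (ap (biprod.lift s₁ s₂) B x) = ap s₂ B x := fun B x => by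
    rw [← ap_comp, biprod.lift_snd]
  have hext : ∀ B (z z' : (Φ p N h₁ ⊞ Φ p N h₂).obj (Adeq.pt B)), ap biprod.fst B z = ap biprod.fst B z' →
      ap biprod.snd B z = ap biprod.snd B z' → z = z' := fun B z z' e e' => by
    have t : ∀ y : (Φ p N h₁ ⊞ Φ p N h₂).obj (Adeq.pt B),
        ap (biprod.inl : Φ p N h₁ ⟶ Φ p N h₁ ⊞ Φ p N h₂) B (ap biprod.fst B y) +
          ap (biprod.inr : Φ p N h₂ ⟶ Φ p N h₁ ⊞ Φ p N h₂) B (ap biprod.snd B y) = y := fun y => by
      rw [← ap_comp, ← ap_comp, ← ap_add, biprod.total]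
      rfl
    rw [← t z, ← t z', e, e']
  have hz : biprod.lift s₁ s₂ ≫ d = 0 := hom_ext fun B x => by
    rw [ap_comp, hd, hf, hs, ap_zero, sub_eq_zero]
    change res N (pmap p e₁ v₁ B) (res N (pmap p k₁ w₁ B) x) = res N (pmap p e₂ v₂ B) (res N (pmap p k₂ w₂ B) x)
    refine (res_comp N _ _ x).symm.trans (Eq.trans ?_ (res_comp N _ _ x))
    refine congrArg (fun k => res N k x) ?_
    rw [pmap_comp, pmap_comp]
    congr 1
    exact sq.w
  have : IsIso (kernel.lift d (biprod.lift s₁ s₂) hz) := by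
    refine isIso_of_bijective _ fun B => ⟨(injective_iff_map_eq_zero _).2 fun x hx => ?_, fun z => ?_⟩
    · have hx' : ap (biprod.lift s₁ s₂) B x = 0 := by
        rw [← kernel.lift_ι d (biprod.lift s₁ s₂) hz, ap_comp, hx, map_zero]
      exact Φres_pair_injective p N w₁ w₂ hcov B x ((hf B x).symm.trans (by rw [hx', map_zero]; rfl))
        ((hs B x).symm.trans (by rw [hx', map_zero]; rfl))
    · have hz' := kernel_condition_apply d B z
      rw [hd, sub_eq_zero] at hz'
      obtain ⟨x, hx₁, hx₂⟩ := Φres_pair_glue p N w₁ w₂ hcov v₁ v₂ sq B _ _ hz'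
      refine ⟨x, kernel_ι_injective d B ?_⟩
      exact (congrArg (fun k => ap k B x) (kernel.lift_ι d (biprod.lift s₁ s₂) hz)).trans
        (hext B _ _ ((hf B x).trans hx₁) ((hs B x).trans hx₂))
  exact (Adeq.adequate A).prop_of_iso (asIso (kernel.lift d (biprod.lift s₁ s₂) hz)).symm
    (adequate_kernel d hsum hU₃)

end mayerVietoris

theorem adequate_Φ_open {A : CommRingCat.{u}} {X : Scheme.{u}} [QuasiSeparatedSpace X] (p : X ⟶ Spec A)
    (N : BigSite.Mod Scheme.fppfPrecoverage.{u} X) (hN : Adeq.adequateMod Scheme.fppfPrecoverage X N)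
    (W : X.Opens) (hW : IsCompact (W : Set X)) : Adeq.adequate A (Φ p N W.ι) := by
  refine induction_qcqs (fun W : X.Opens => Adeq.adequate A (Φ p N W.ι)) (fun U hU => ?_) (fun U V hU hV hUV => ?_) W hW
  · refine (adequate_Φ_of_iso p N (h' := hU.fromSpec) hU.isoSpec.inv rfl).2 ?_
    exact adequate_Φ_affine p N hU.fromSpec (adequate_toMVF N good_fppf hN _)
  · refine adequate_Φ_union p N (k₁ := X.homOfLE le_sup_left) (k₂ := X.homOfLE le_sup_right)
      (X.homOfLE_ι _) (X.homOfLE_ι _) ?_ (e₁ := X.homOfLE inf_le_left) (e₂ := X.homOfLE inf_le_right)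
      (X.homOfLE_ι _) (X.homOfLE_ι _) ?_ hU hV hUV
    · refine Set.eq_univ_of_forall fun x => ?_
      rcases x.2 with hx | hx
      · exact Or.inl ⟨⟨x.1, hx⟩, Subtype.ext (by simp)⟩
      · exact Or.inr ⟨⟨x.1, hx⟩, Subtype.ext (by simp)⟩
    · exact isPullback_opens_inf_le _ _

end AdeqModLib
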