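import Groth.Agent.AdeqModLib.PhiMV

/-!
Direct images of adequate modules along quasi-compact quasi-separated morphisms.
-/

set_option autoImplicit false
set_option maxHeartbeats 1600000
universe u

open CategoryTheory CategoryTheory.Limits AlgebraicGeometry Opposite
open AdeqLib

noncomputable section

namespace AdeqModLib

variable {K : Precoverage Scheme.{u}} [BigSite.OSh K] {S T : Scheme.{u}} (f : T ⟶ S) {A : CommRingCat.{u}}
  (b : Spec A ⟶ S)

theorem so_hom_one (B : Adeq.Alg A) : (so (𝟙 (Spec A)) B).hom ≫ b = (so b B).hom := by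
  change (Spec.map _ ≫ 𝟙 _) ≫ b = Spec.map _ ≫ b
  rw [Category.comp_id]

section pb

variable {Y : Scheme.{u}} (g : Y ⟶ Spec A) (g' : Y ⟶ S) (hg : g ≫ b = g') (q₀ : pullback b f ⟶ Spec A)
  (hq : q₀ = pullback.fst b f)

/-- Base change in two steps, for schemes. -/
def pbIso : pullback g q₀ ≅ pullback g' f where
  hom := pullback.lift (pullback.fst _ _) (pullback.snd _ _ ≫ pullback.snd b f) (by
    subst hq
    rw [Category.assoc, ← pullback.condition (f := b), ← hg, ← Category.assoc, pullback.condition]
    simp only [Category.assoc])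
  inv := pullback.lift (pullback.fst g' f)
    (pullback.lift (pullback.fst g' f ≫ g) (pullback.snd g' f) (by rw [Category.assoc, hg, pullback.condition]))
    (by rw [hq, pullback.lift_fst])
  hom_inv_id := by
    subst hq
    apply pullback.hom_ext
    · rw [Category.assoc, pullback.lift_fst, pullback.lift_fst, Category.id_comp]
    · rw [Category.assoc, pullback.lift_snd, Category.id_comp]
      apply pullback.hom_ext
      · rw [Category.assoc, pullback.lift_fst, pullback.lift_fst_assoc, pullback.condition]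
      · rw [Category.assoc, pullback.lift_snd, pullback.lift_snd]
  inv_hom_id := by
    subst hq
    apply pullback.hom_ext
    · simp only [Category.assoc, pullback.lift_fst, Category.id_comp]
    · rw [Category.assoc, pullback.lift_snd, pullback.lift_snd_assoc, pullback.lift_snd, Category.id_comp]

theorem pbIso_hom_fst : (pbIso f b g g' hg q₀ hq).hom ≫ pullback.fst g' f = pullback.fst _ _ :=
  pullback.lift_fst _ _ _

theorem pbIso_hom_snd :
    (pbIso f b g g' hg q₀ hq).hom ≫ pullback.snd g' f = pullback.snd _ _ ≫ pullback.snd b f :=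
  pullback.lift_snd _ _ _

end pb

/-- Base change in two steps. -/
def pushObjIso (B : Adeq.Alg A) :
    (Over.map (pullback.snd b f)).obj (pobj (pullback.fst b f) (𝟙 (pullback b f)) B) ≅
      (Over.pullback f).obj (so b B) :=
  Over.isoMk (pbIso f b (so (𝟙 (Spec A)) B).hom (so b B).hom (so_hom_one b B) _ (Category.id_comp _)) (by
    refine (pbIso_hom_snd f b _ _ (so_hom_one b B) _ (Category.id_comp _)).trans ?_
    exact congrArg (· ≫ pullback.snd b f) (Category.comp_id _).symm)

theorem pushObjIso_fst (B : Adeq.Alg A) :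
    (pushObjIso f b B).hom.left ≫ pullback.fst (so b B).hom f = pfst (pullback.fst b f) (𝟙 (pullback b f)) B :=
  pbIso_hom_fst f b _ _ (so_hom_one b B) _ (Category.id_comp _)

theorem pushObjIso_snd (B : Adeq.Alg A) :
    (pushObjIso f b B).hom.left ≫ pullback.snd (so b B).hom f =
      psnd (pullback.fst b f) (𝟙 (pullback b f)) B ≫ pullback.snd b f :=
  pbIso_hom_snd f b _ _ (so_hom_one b B) _ (Category.id_comp _)

theorem pushObjIso_nat {B B' : Adeq.Alg A} (g : B ⟶ B') :
    (Over.map (pullback.snd b f)).map (qmap (pullback.fst b f) (𝟙 (pullback b f)) g) ≫ (pushObjIso f b B).hom =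
      (pushObjIso f b B').hom ≫ (Over.pullback f).map (sm b g) := by
  refine Over.OverMorphism.ext (pullback.hom_ext ?_ ?_)
  · refine (Category.assoc _ _ _).trans (Eq.trans ?_ (Category.assoc _ _ _).symm)
    refine (congrArg (_ ≫ ·) (pushObjIso_fst f b B)).trans (Eq.trans ?_
      (congrArg (_ ≫ ·) (pullback.lift_fst _ _ _)).symm)
    refine (qmap_fst _ _ g).trans (Eq.trans ?_ (Category.assoc _ _ _))
    exact congrArg (· ≫ _) (pushObjIso_fst f b B').symm
  · refine (Category.assoc _ _ _).trans (Eq.trans ?_ (Category.assoc _ _ _).symm)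
    refine (congrArg (_ ≫ ·) (pushObjIso_snd f b B)).trans (Eq.trans ?_
      (congrArg (_ ≫ ·) (pullback.lift_snd _ _ _)).symm)
    refine ((Category.assoc _ _ _).symm.trans (congrArg (· ≫ _) (qmap_snd _ _ g))).trans ?_
    exact (pushObjIso_snd f b B').symm

theorem tr_pushMod (M : BigSite.Mod K T) {B B' : Adeq.Alg A} (g : B ⟶ B')
    (x : BigSite.sectMod K ((BigSite.pushMod K f).obj M) (so b B)) :
    AdeqLib.tr ((Adeq.toMVF K b).obj ((BigSite.pushMod K f).obj M)) g x =
      res M ((Over.pullback f).map (sm b g)) x := tr_toMVF b _ g x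

theorem tr_Φ {X : Scheme.{u}} (p : X ⟶ Spec A) (N : BigSite.Mod K X) {U : Scheme.{u}} (h : U ⟶ X)
    {B B' : Adeq.Alg A} (g : B ⟶ B') (x : BigSite.sectMod K N (pobj p h B)) :
    AdeqLib.tr (Φ p N h) g x = res N (qmap p h g) x := rfl

theorem res_pullMod (M : BigSite.Mod K T) {X : Scheme.{u}} (q : X ⟶ T) {U V : Over X} (g : V ⟶ U)
    (x : BigSite.sectMod K ((BigSite.pullMod K q).obj M) U) :
    res ((BigSite.pullMod K q).obj M) g x = res M ((Over.map q).map g) x := rfl

section generic

variable {X U : Scheme.{u}} (p : X ⟶ Spec A) (q : X ⟶ T) (h : U ⟶ X)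
  (e : ∀ B : Adeq.Alg A, (Over.map q).obj (pobj p h B) ≅ (Over.pullback f).obj (so b B))
  (hfst : ∀ B, (e B).hom.left ≫ pullback.fst (so b B).hom f = pfst p h B)
  (hnat : ∀ {B B' : Adeq.Alg A} (g : B ⟶ B'),
    (Over.map q).map (qmap p h g) ≫ (e B).hom = (e B').hom ≫ (Over.pullback f).map (sm b g))

include hfst hnat

omit hfst hnat in
/-- The identification on sections. -/
def pin (M : BigSite.Mod K T) (B : Adeq.Alg A) :
    ((Adeq.toMVF K b).obj ((BigSite.pushMod K f).obj M)).obj (Adeq.pt B) →+
      (Φ p ((BigSite.pullMod K q).obj M) h).obj (Adeq.pt B) :=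
  res M (e B).hom

omit hfst in
theorem pin_nat (M : BigSite.Mod K T) {B₁ B₂ : Adeq.Alg A} (g : B₁ ⟶ B₂)
    (x : ((Adeq.toMVF K b).obj ((BigSite.pushMod K f).obj M)).obj (Adeq.pt B₁)) :
    pin f b p q h e M B₂ (AdeqLib.tr ((Adeq.toMVF K b).obj ((BigSite.pushMod K f).obj M)) g x) =
      AdeqLib.tr (Φ p ((BigSite.pullMod K q).obj M) h) g (pin f b p q h e M B₁ x) := by
  have key : ∀ y : BigSite.sectMod K M ((Over.pullback f).obj (so b B₁)),
      res M (e B₂).hom (res M ((Over.pullback f).map (sm b g)) y) =
        res M ((Over.map q).map (qmap p h g)) (res M (e B₁).hom y) := fun y => by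
    rw [← res_comp, ← res_comp, hnat]
  exact key x

/-- Sections of the direct image, for a given identification of objects. -/
def pushHom' (M : BigSite.Mod K T) :
    (Adeq.toMVF K b).obj ((BigSite.pushMod K f).obj M) ⟶ Φ p ((BigSite.pullMod K q).obj M) h :=
  mkHom (fun B => pin f b p q h e M B)
    (fun B c x => by
      let r₀ : (BigSite.ORing K T).obj.obj (op ((Over.pullback f).obj (so b B))) :=
        ULift.up ((pullback.fst (so b B).hom f).appTop ((Scheme.ΓSpecIso (CommRingCat.of (B : Type u))).inv c))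
      refine (res_smul M (e B).hom r₀ x).trans ?_
      refine congrArg (fun r : (BigSite.ORing K T).obj.obj (op ((Over.map q).obj (pobj p h B))) =>
          r • res M (e B).hom x) ?_
      apply ULift.ext
      exact (congrArg (fun k : (pobj p h B).left ⟶ (so (𝟙 (Spec A)) B).left =>
        (Scheme.Hom.appTop k) ((Scheme.ΓSpecIso (CommRingCat.of (B : Type u))).inv c)) (hfst B)))
    (fun {B₁ B₂} g x => pin_nat f b p q h e hnat M g x)

theorem isIso_pushHom' (M : BigSite.Mod K T) : IsIso (pushHom' f b p q h e hfst hnat M) :=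
  isIso_of_bijective _ fun B => res_iso_bijective M (e B)

end generic

theorem adequateMod_pushMod {S T : Scheme.{u}} (f : T ⟶ S) [QuasiCompact f] [QuasiSeparated f]
    (M : BigSite.Mod Scheme.fppfPrecoverage.{u} T) (hM : Adeq.adequateMod Scheme.fppfPrecoverage T M) :
    Adeq.adequateMod Scheme.fppfPrecoverage S ((BigSite.pushMod Scheme.fppfPrecoverage f).obj M) := by
  refine (adequateMod_iff _ good_fppf).2 fun A b => ?_
  have := isIso_pushHom' f b _ _ _ (pushObjIso f b) (pushObjIso_fst f b) (pushObjIso_nat f b) M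
  refine (Adeq.adequate A).prop_of_iso
    (asIso (pushHom' f b _ _ _ (pushObjIso f b) (pushObjIso_fst f b) (pushObjIso_nat f b) M)).symm ?_
  have : CompactSpace ↥(pullback b f) := QuasiCompact.compactSpace_of_compactSpace (pullback.fst b f)
  have : QuasiSeparatedSpace ↥(pullback b f) := quasiSeparatedSpace_of_quasiSeparated (pullback.fst b f)
  refine (adequate_Φ_of_iso _ _ (h := (⊤ : (pullback b f).Opens).ι) (pullback b f).topIso.inv ?_).1
    (adequate_Φ_open _ _ (adequateMod_pull M good_fppf _ hM) ⊤ isCompact_univ)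
  exact (pullback b f).topIso.inv_hom_id

end AdeqModLib
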