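import Groth.Agent.AdeqModLib.PhiCoh
import Groth.Agent.AdeqModLib.Ops

/-!
Higher direct images of adequate modules.
-/

set_option autoImplicit false
set_option maxHeartbeats 1600000
universe u

open CategoryTheory CategoryTheory.Limits AlgebraicGeometry Opposite
open AdeqLib

noncomputable section

namespace AdeqModLib

section homology

variable {K : Precoverage Scheme.{u}} [BigSite.OSh K] {S : Scheme.{u}}

/-- The cohomology of a complex of sheaves of modules is adequate if that of the complexes of functors is. -/
theorem adequateMod_homology (hK : Good K) (C : ShortComplex (BigSite.Mod K S))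
    (h : ∀ (A : CommRingCat.{u}) (b : Spec A ⟶ S), Adeq.adequate A (C.map (Adeq.toMVF K b)).homology) :
    Adeq.adequateMod K S C.homology := by
  have : (incl K S).Additive := { }
  have : (PresheafOfModules.sheafification.{u + 1} (𝟙 (BigSite.ORing K S).obj)).Additive :=
    Functor.additive_of_preserves_binary_products _
  have : PreservesFiniteColimits (PresheafOfModules.sheafification.{u + 1} (𝟙 (BigSite.ORing K S).obj)) :=
    ⟨fun J _ _ => inferInstance⟩
  have hP : ∀ (A : CommRingCat.{u}) (b : Spec A ⟶ S),
      Adeq.adequate A ((Adeq.toMVFPre K b).obj (C.map (incl K S)).homology) := fun A b => by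
    have : PreservesFiniteColimits (Adeq.toMVFPre K b) := ⟨fun J _ _ => inferInstance⟩
    refine (Adeq.adequate A).prop_of_iso ?_ (h A b)
    exact ShortComplex.homologyMapIso (C.mapNatIso (F := Adeq.toMVF K b) (G := incl K S ⋙ Adeq.toMVFPre K b)
      (NatIso.ofComponents (fun M => Iso.refl _))) ≪≫ (C.map (incl K S)).mapHomologyIso (Adeq.toMVFPre K b)
  refine (Adeq.adequateMod K S).prop_of_iso ?_ (adequate_sheafification _ hP hK)
  exact ((C.map (incl K S)).mapHomologyIso (PresheafOfModules.sheafification (𝟙 (BigSite.ORing K S).obj))).symm ≪≫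
    ShortComplex.homologyMapIso (C.mapNatIso (counit K S)) ≪≫ Iso.refl _

end homology

theorem preservesFiniteLimits_pushMod {T X : Scheme.{u}} (q : X ⟶ T) : PreservesFiniteLimits (BigSite.pushMod Scheme.fppfPrecoverage.{u} q) := by
  have := (BigSite.modAdj Scheme.fppfPrecoverage.{u} q).rightAdjoint_preservesLimits.{0, 0}
  exact PreservesLimitsOfSize.preservesFiniteLimits _

theorem preservesFiniteLimits_pullMod {T X : Scheme.{u}} (q : X ⟶ T) : PreservesFiniteLimits (BigSite.pullMod Scheme.fppfPrecoverage.{u} q) := by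
  have := (BigSite.shriekAbAdj Scheme.fppfPrecoverage.{u} q).rightAdjoint_preservesLimits.{0, 0}
  have : PreservesFiniteLimits (BigSite.pullBig Scheme.fppfPrecoverage.{u} q AddCommGrpCat.{u + 1}) :=
    PreservesLimitsOfSize.preservesFiniteLimits _
  have : PreservesFiniteLimits (BigSite.pullMod Scheme.fppfPrecoverage.{u} q ⋙ BigSite.toAbMod Scheme.fppfPrecoverage X) :=
    inferInstanceAs (PreservesFiniteLimits (BigSite.toAbMod Scheme.fppfPrecoverage T ⋙
      BigSite.pullBig Scheme.fppfPrecoverage.{u} q AddCommGrpCat.{u + 1}))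
  exact preservesFiniteLimits_of_reflects_of_preserves _ (BigSite.toAbMod Scheme.fppfPrecoverage X)

theorem preservesFiniteLimits_ΦF {A : CommRingCat.{u}} {T X U : Scheme.{u}} (p : X ⟶ Spec A) (q : X ⟶ T) (h : U ⟶ X) :
    PreservesFiniteLimits (ΦF p q h) := by
  have := preservesFiniteLimits_pullMod q
  have := preservesFiniteLimits_pullMod h
  have := preservesFiniteLimits_pushMod (h ≫ p)
  unfold ΦF ΦN
  infer_instance

variable {S T : Scheme.{u}} (f : T ⟶ S) {A : CommRingCat.{u}} (b : Spec A ⟶ S)

/-- The direct image on affine objects as cohomology on the base change. -/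
def pushNT : BigSite.pushMod Scheme.fppfPrecoverage.{u} f ⋙ Adeq.toMVF Scheme.fppfPrecoverage b ≅
    ΦF (pullback.fst b f) (pullback.snd b f) (𝟙 (pullback b f)) :=
  NatIso.ofComponents (fun M =>
    @asIso _ _ _ _ (pushHom' f b _ _ _ (pushObjIso f b) (pushObjIso_fst f b) (pushObjIso_nat f b) M)
      (isIso_pushHom' f b _ _ _ (pushObjIso f b) (pushObjIso_fst f b) (pushObjIso_nat f b) M))
    (fun {M N} φ => hom_ext fun B x => res_mapp φ (pushObjIso f b B).hom x)

theorem adequate_homology_push [QuasiCompact f] [QuasiSeparated f]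
    [HasInjectiveResolutions (BigSite.Mod Scheme.fppfPrecoverage.{u} T)]
    {M : BigSite.Mod Scheme.fppfPrecoverage.{u} T} (I : InjectiveResolution M)
    (hM : Adeq.adequateMod Scheme.fppfPrecoverage T M) (i : ℕ) :
    Adeq.adequate A (((((BigSite.pushMod Scheme.fppfPrecoverage f).mapHomologicalComplex _).obj
      I.cocomplex).sc i).map (Adeq.toMVF Scheme.fppfPrecoverage b)).homology := by
  let p := pullback.fst b f
  let q := pullback.snd b f
  have : CompactSpace ↥(pullback b f) := QuasiCompact.compactSpace_of_compactSpace p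
  have : QuasiSeparatedSpace ↥(pullback b f) := quasiSeparatedSpace_of_quasiSeparated p
  refine (Adeq.adequate A).prop_of_iso ((HomologicalComplex.homologyFunctor (Adeq.MVF A) (ComplexShape.up ℕ) i).mapIso
    ((NatIso.mapHomologicalComplex (pushNT f b) _).app I.cocomplex)).symm ?_
  refine (adequate_homology_of_isIso p q I (h := (⊤ : (pullback b f).Opens).ι) (pullback b f).topIso.inv
    (pullback b f).topIso.inv_hom_id i).1 ?_
  suffices ∀ W : (pullback b f).Opens, IsCompact (W : Set ↥(pullback b f)) →
      ∀ n, Adeq.adequate A ((Cx p q I W.ι).homology n) from this ⊤ isCompact_univ i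
  have h₀ : ∀ W : (pullback b f).Opens, IsCompact (W : Set ↥(pullback b f)) →
      Adeq.adequate A ((Cx p q I W.ι).homology 0) := fun W hW => by
    refine (Adeq.adequate A).prop_of_iso ?_
      (adequate_Φ_open p _ (adequateMod_pull M good_fppf q hM) W hW)
    have := preservesFiniteLimits_ΦF p q W.ι
    exact ((ΦF p q W.ι).rightDerivedZeroIsoSelf.app M).symm ≪≫ I.isoRightDerivedObj (ΦF p q W.ι) 0
  intro W hW n
  cases n with
  | zero => exact h₀ W hW
  | succ n =>
    revert n
    suffices h : IsCompact (W : Set ↥(pullback b f)) ∧ ∀ n, Adeq.adequate A ((Cx p q I W.ι).homology n) from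
      fun n => h.2 (n + 1)
    refine induction_qcqs (fun W : (pullback b f).Opens =>
      IsCompact (W : Set ↥(pullback b f)) ∧ ∀ n, Adeq.adequate A ((Cx p q I W.ι).homology n))
      (fun U hU => ⟨hU.isCompact, fun n => ?_⟩) (fun U V hU hV hUV => ⟨hU.1.union hV.1, fun n => ?_⟩) W hW
    · cases n with
      | zero => exact h₀ U hU.isCompact
      | succ n =>
        have : IsAffine (U : (pullback b f).Opens).toScheme := hU
        exact adequate_homology_affine p q I hM U.ι n
    · cases n with
      | zero => exact h₀ _ (hU.1.union hV.1)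
      | succ n =>
        refine adequate_homology_union p q I (k₁ := (pullback b f).homOfLE le_sup_left)
          (k₂ := (pullback b f).homOfLE le_sup_right) (Scheme.homOfLE_ι _ _) (Scheme.homOfLE_ι _ _) ?_
          (e₁ := (pullback b f).homOfLE inf_le_left) (e₂ := (pullback b f).homOfLE inf_le_right)
          (Scheme.homOfLE_ι _ _) (Scheme.homOfLE_ι _ _) (isPullback_opens_inf_le _ _) hU.2 hV.2 hUV.2 n
        refine Set.eq_univ_of_forall fun x => ?_
        rcases x.2 with hx | hx
        · exact Or.inl ⟨⟨x.1, hx⟩, Subtype.ext (by simp)⟩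
        · exact Or.inr ⟨⟨x.1, hx⟩, Subtype.ext (by simp)⟩

theorem adequateMod_RpushMod [QuasiCompact f] [QuasiSeparated f]
    [HasInjectiveResolutions (BigSite.Mod Scheme.fppfPrecoverage.{u} T)]
    (M : BigSite.Mod Scheme.fppfPrecoverage.{u} T) (hM : Adeq.adequateMod Scheme.fppfPrecoverage T M) (i : ℕ) :
    Adeq.adequateMod Scheme.fppfPrecoverage S ((BigSite.RpushMod Scheme.fppfPrecoverage f i).obj M) := by
  let I := (HasInjectiveResolution.out (Z := M)).some
  refine (Adeq.adequateMod Scheme.fppfPrecoverage S).prop_of_iso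
    (I.isoRightDerivedObj (BigSite.pushMod Scheme.fppfPrecoverage f) i).symm ?_
  exact adequateMod_homology good_fppf _ fun A b => adequate_homology_push f b I hM i

end AdeqModLib
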