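import Groth.Prelude.Def_Adeq2
import Groth.Agent.AdeqLib.Descent
import Mathlib.AlgebraicGeometry.GammaSpecAdjunction

/-!
Sections of modules on big sites over affine objects.
-/

set_option autoImplicit false
set_option maxHeartbeats 800000
universe u

open CategoryTheory CategoryTheory.Limits AlgebraicGeometry Opposite TensorProduct

noncomputable section

namespace AdeqModLib

variable {K : Precoverage Scheme.{u}} [BigSite.OSh K] {S : Scheme.{u}}

/-- Restriction of sections. -/
def res (M : BigSite.Mod K S) {U V : Over S} (g : V ⟶ U) : BigSite.sectMod K M U →+ BigSite.sectMod K M V :=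
  (M.val.presheaf.map g.op).hom

theorem res_comp (M : BigSite.Mod K S) {U V W : Over S} (g : V ⟶ U) (h : W ⟶ V) (x : BigSite.sectMod K M U) :
    res M (h ≫ g) x = res M h (res M g x) :=
  congrArg (fun k => k x) (congrArg AddCommGrpCat.Hom.hom (M.val.presheaf.map_comp g.op h.op))

theorem res_id (M : BigSite.Mod K S) {U : Over S} (x : BigSite.sectMod K M U) : res M (𝟙 U) x = x :=
  congrArg (fun k => k x) (congrArg AddCommGrpCat.Hom.hom (M.val.presheaf.map_id (op U)))

theorem res_smul (M : BigSite.Mod K S) {U V : Over S} (g : V ⟶ U) (r : (BigSite.ORing K S).obj.obj (op U))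
    (x : BigSite.sectMod K M U) :
    res M g (r • x) = (BigSite.ORing K S).obj.map g.op r • res M g x :=
  PresheafOfModules.map_smul M.val g.op r x

/-- A covering family of the underlying scheme covers an object of the big site. -/
theorem ofArrows_mem {U : Over S} {ι : Type*} {Yf : ι → Over S} (g : ∀ i, Yf i ⟶ U)
    (hg : Presieve.ofArrows (fun i => (Yf i).left) (fun i => (g i).left) ∈ K.coverings U.left) :
    Sieve.ofArrows Yf g ∈ QuotSh.J K S U := by
  rw [GrothendieckTopology.mem_over_iff, Sieve.ofArrows, Sieve.overEquiv_generate]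
  refine GrothendieckTopology.superset_covering _ ?_ (Precoverage.generate_mem_toGrothendieck hg)
  refine (Sieve.generate_le_iff _ _).2 ?_
  rintro _ _ ⟨i⟩
  exact Sieve.le_generate _ _ _ ⟨Yf i, g i, 𝟙 _, ⟨i⟩, (Category.id_comp _).symm⟩

theorem isSheafFor (M : BigSite.Mod K S) {U : Over S} {R : Sieve U} (hR : R ∈ QuotSh.J K S U) :
    Presieve.IsSheafFor (M.val.presheaf ⋙ forget AddCommGrpCat.{u + 1}) R.arrows :=
  (isSheaf_iff_isSheaf_of_type _ _).1
    ((Presheaf.isSheaf_iff_isSheaf_forget _ _ (forget AddCommGrpCat.{u + 1})).1 M.isSheaf) R hR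

theorem isSheafFor_ofArrows (M : BigSite.Mod K S) {U : Over S} {ι : Type*} {Yf : ι → Over S} (g : ∀ i, Yf i ⟶ U)
    (hg : Sieve.ofArrows Yf g ∈ QuotSh.J K S U) :
    Presieve.IsSheafFor (M.val.presheaf ⋙ forget AddCommGrpCat.{u + 1}) (Presieve.ofArrows Yf g) :=
  (Presieve.isSheafFor_iff_generate _).2 (isSheafFor M hg)

/-- Sections are determined on a covering family. -/
theorem eq_zero_of_res (M : BigSite.Mod K S) {U : Over S} {ι : Type*} {Yf : ι → Over S} (g : ∀ i, Yf i ⟶ U)
    (hg : Sieve.ofArrows Yf g ∈ QuotSh.J K S U) (x : BigSite.sectMod K M U) (hx : ∀ i, res M (g i) x = 0) :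
    x = 0 :=
  (isSheafFor_ofArrows M g hg).isSeparatedFor.ext fun V f ⟨i⟩ => (hx i).trans (map_zero (res M (g i))).symm

/-- Compatible sections on a covering family glue. -/
theorem exists_glue (M : BigSite.Mod K S) {U : Over S} {ι : Type*} {Yf : ι → Over S} (g : ∀ i, Yf i ⟶ U)
    (hg : Sieve.ofArrows Yf g ∈ QuotSh.J K S U) (s : ∀ i, BigSite.sectMod K M (Yf i))
    (hs : ∀ i j (Z : Over S) (a : Z ⟶ Yf i) (b : Z ⟶ Yf j), a ≫ g i = b ≫ g j → res M a (s i) = res M b (s j)) :
    ∃ t, ∀ i, res M (g i) t = s i := by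
  obtain ⟨t, ht, -⟩ := (Presieve.isSheafFor_arrows_iff _ _).1 (isSheafFor_ofArrows M g hg) s hs
  exact ⟨t, ht⟩

theorem eq_toSpecΓ {T : Scheme.{u}} {R : CommRingCat.{u}} (g : T ⟶ Spec R) :
    g = T.toSpecΓ ≫ Spec.map ((Scheme.ΓSpecIso R).inv ≫ g.appTop) := by
  rw [Spec.map_comp, ← Category.assoc, ← Scheme.toSpecΓ_naturality, Category.assoc,
    toSpecΓ_SpecMap_ΓSpecIso_inv, Category.comp_id]

theorem specHom_injective {T : Scheme.{u}} {R : CommRingCat.{u}} (φ ψ : R ⟶ Γ(T, ⊤))
    (h : T.toSpecΓ ≫ Spec.map φ = T.toSpecΓ ≫ Spec.map ψ) : φ = ψ := by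
  have key : ∀ χ : R ⟶ Γ(T, ⊤), (T.toSpecΓ ≫ Spec.map χ).appTop = (Scheme.ΓSpecIso R).hom ≫ χ := fun χ => by
    rw [Scheme.Hom.comp_appTop, Scheme.toSpecΓ_appTop, Scheme.ΓSpecIso_naturality]
  have h1 := congrArg (fun f => f.appTop) h
  rw [key, key] at h1
  exact (cancel_epi _).1 h1

variable {R : CommRingCat.{u}} (a : Spec R ⟶ S)

/-- The object of the big site attached to an algebra. -/
abbrev so (B : Adeq.Alg R) : Over S := (Adeq.specOver a).obj (op B)

/-- The map of objects attached to a map of algebras. -/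
abbrev sm {B B' : Adeq.Alg R} (h : B ⟶ B') : so a B' ⟶ so a B := (Adeq.specOver a).map h.op

theorem tr_toMVF (M : BigSite.Mod K S) {B B' : Adeq.Alg R} (h : B ⟶ B') (x : BigSite.sectMod K M (so a B)) :
    AdeqLib.tr ((Adeq.toMVF K a).obj M) h x = res M (sm a h) x := rfl

theorem ΓSpecIso_inv_map {B B' : Type u} [CommRing B] [CommRing B'] (g : B →+* B') (b : B) :
    (Spec.map (CommRingCat.ofHom g)).appTop ((Scheme.ΓSpecIso (CommRingCat.of B)).inv b) =
      (Scheme.ΓSpecIso (CommRingCat.of B')).inv (g b) := by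
  change ((Scheme.ΓSpecIso (CommRingCat.of B)).inv ≫ (Spec.map (CommRingCat.ofHom g)).appTop) b = _
  rw [← Scheme.ΓSpecIso_inv_naturality]
  rfl

end AdeqModLib
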