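import Groth.Agent.AdeqModLib.Adequate
import Groth.Agent.AdeqLib.Category

/-!
The structure sheaf is adequate.
-/

set_option autoImplicit false
set_option maxHeartbeats 1600000
universe u

open CategoryTheory CategoryTheory.Limits AlgebraicGeometry Opposite TensorProduct
open AdeqLib

noncomputable section

namespace AdeqModLib

variable {K : Precoverage Scheme.{u}} [BigSite.OSh K] {S : Scheme.{u}} {A : CommRingCat.{u}} (b : Spec A ⟶ S)

/-- The base ring as a module one universe up. -/
abbrev baseMod (A : CommRingCat.{u}) : ModuleCat.{u + 1} A := ModuleCat.of A (ULift.{u + 1} A)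

/-- Values of the module of the base ring as functions. -/
def unitVal (B : Adeq.Alg A) : (U (baseMod A)).obj (Adeq.pt B) ≃+ (B : Type u) :=
  (el (baseMod A) B).toAddEquiv.trans
    ((TensorProduct.congr (LinearEquiv.refl A (B : Type u)) (ULift.moduleEquiv (R := (A : Type u)) (M := (A : Type u)))).toAddEquiv.trans
      (TensorProduct.rid A (B : Type u)).toAddEquiv)

/-- Functions on affine objects as sections of the structure sheaf. -/
def sectVal (B : Adeq.Alg A) : (B : Type u) ≃+ BigSite.sectMod K (BigSite.unitMod K S) (so b B) :=
  AddEquiv.mk' ((Scheme.ΓSpecIso (CommRingCat.of (B : Type u))).commRingCatIsoToRingEquiv.symm.toEquiv.trans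
    Equiv.ulift.symm) fun x y => ULift.ext _ _ (map_add (Scheme.ΓSpecIso (CommRingCat.of (B : Type u))).inv.hom x y)

/-- The structure sheaf as the functor of the base ring. -/
def unitHom : U (baseMod A) ⟶ (Adeq.toMVF K b).obj (BigSite.unitMod K S) :=
  mkHom (fun B => ((unitVal B).trans (sectVal b B)).toAddMonoidHom)
    (fun B c x => by
      have h : unitVal B (c • x) = c * unitVal B x := by
        change TensorProduct.rid A (B : Type u) (TensorProduct.congr _ _ (c • el (baseMod A) B x)) =
          c * TensorProduct.rid A (B : Type u) (TensorProduct.congr _ _ (el (baseMod A) B x))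
        induction el (baseMod A) B x using TensorProduct.induction_on with
        | zero => simp
        | tmul b m => simp [TensorProduct.smul_tmul', mul_smul_comm]
        | add y z hy hz => simp only [smul_add, map_add, hy, hz, mul_add]
      apply ULift.ext
      change (Scheme.ΓSpecIso (CommRingCat.of (B : Type u))).inv (unitVal B (c • x)) = _
      rw [h, map_mul]
      rfl)
    (fun {B₁ B₂} g x => by
      have h : unitVal B₂ (AdeqLib.tr (U (baseMod A)) g x) = g.hom (unitVal B₁ x) := by
        change TensorProduct.rid A (B₂ : Type u) (TensorProduct.congr _ _ (el (baseMod A) B₂ (AdeqLib.tr (U (baseMod A)) g x))) =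
          g.hom (TensorProduct.rid A (B₁ : Type u) (TensorProduct.congr _ _ (el (baseMod A) B₁ x)))
        rw [el_tr]
        induction el (baseMod A) B₁ x using TensorProduct.induction_on with
        | zero => simp
        | tmul b m => simp
        | add y z hy hz => simp only [map_add, hy, hz]
      apply ULift.ext
      change (Scheme.ΓSpecIso (CommRingCat.of (B₂ : Type u))).inv (unitVal B₂ _) = _
      rw [h]
      exact (ΓSpecIso_inv_map g.hom.toRingHom (unitVal B₁ x)).symm)

theorem adequateMod_unit (hK : Good K) : Adeq.adequateMod K S (BigSite.unitMod K S) :=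
  (adequateMod_iff _ hK).2 fun A b => by
    have := isIso_of_bijective (unitHom (K := K) b) fun B => ((unitVal B).trans (sectVal (K := K) b B)).bijective
    exact (Adeq.adequate A).prop_of_iso (asIso (unitHom (K := K) b)) (adequate_U _ _)

end AdeqModLib
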